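import Groth.Agent.Resolve.K937.StarGeo
import Groth.Agent.Resolve.K73.TorBridge

/-!
# Node D2 of the resolution project: the star subdivision of a chart

`K937.StarThm.main : K84.DParts.Star K`.
-/

set_option autoImplicit false
universe u

open CategoryTheory AlgebraicGeometry

namespace K937.StarThm

open K84 K84.Iface K84.DParts BlowUp Function
open Groth.Agent.Divis Groth.Agent.Divis.IdealComap Groth.Agent.Divis.BlowChart Groth.Agent.Divis.BlowChart2

/-- monomials are nonzero in smooth algebras over `K[cone v]` -/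
theorem map_mon_ne_zero {K : Type u} [Field K] {P I : Type} [AddCommGroup P] {v : I → P →+ ℤ} {A : Type u}
    [CommRing A] [Nontrivial A] (ψ : Tor.Alg K v →+* A) (hψ : ψ.Smooth) {q : P} (hq : q ∈ Tor.cone v) :
    ψ (Tor.mon K hq) ≠ 0 := by
  algebraize [ψ]
  have hs : Algebra.Smooth (Tor.Alg K v) A := hψ
  have hf : Module.Flat (Tor.Alg K v) A := inferInstance
  have h1 := K73.Toric.mon_mem_nonZeroDivisors (K := K) (R := A) (Q := Tor.cone v) hq
  exact nonZeroDivisors.ne_zero h1

theorem kmap_comp {K : Type u} [Field K] {X₁ X : Scheme.{u}} (p : X ⟶ Spec (CommRingCat.of K)) (φ : X₁ ⟶ X)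
    (U : X.Opens) (V : X₁.Opens) (e : V ≤ φ ⁻¹ᵁ U) (c : K) :
    (φ.appLE U V e).hom (kmap p U c) = kmap (φ ≫ p) V c := by
  have h : p.appLE ⊤ U (by simp) ≫ φ.appLE U V e = (φ ≫ p).appLE ⊤ V (by simp) :=
    Scheme.Hom.appLE_comp_appLE φ p ⊤ U V (by simp) e
  have h2 := ConcreteCategory.congr_hom h ((Scheme.ΓSpecIso (CommRingCat.of K)).inv.hom c)
  exact h2

theorem main' (K : Type u) [Field K] (X X₁ : Scheme.{u}) (p : X ⟶ Spec (CommRingCat.of K)) (_ : IsIntegral X)
    (ι : Type) (F : ι → X.IdealSheafData) (φ : X₁ ⟶ X) (J : X.IdealSheafData) (h : IsNB φ J)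
    (a : ι → ℚ) (e : ι → ℕ) (F' : Option ι → X₁.IdealSheafData)
    (hF0 : F' none = J.comap φ)
    (hF1 : ∀ l, 0 < a l → F' (some l) * J.comap φ = (F l ^ e l).comap φ)
    (hF2 : ∀ l, a l = 0 → F' (some l) = (F l).comap φ)
    (ha0 : ∀ l, 0 ≤ a l)
    (U : X.affineOpens) (c : FChart p F U) (w : c.P →+ ℤ) (c0 : ℕ)
    (hal : ∀ l, 0 < a l → l ∈ Set.range c.lab)
    (hbox : Tor.Box c.v (fun i => a (c.lab i)) w) (hc0 : 0 < c0)
    (he : ∀ i, 0 < a (c.lab i) → (e (c.lab i) : ℤ) * w (c.dat.q i) = c0)
    (hJU : J.ideal U = Ideal.span {y | ∃ i, 0 < a (c.lab i) ∧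
        y = c.ψ (Tor.mon K (c.dat.mem i)) ^ e (c.lab i)})
    (x₁ : X₁) (hx₁ : φ x₁ ∈ U.1) :
    ∃ (V : X₁.affineOpens) (_ : x₁ ∈ V.1) (c' : FChart (φ ≫ p) F' V), Tor.mult c'.v < Tor.mult c.v := by
  classical
  have hint := h.int
  have hUne : Nonempty U.1 := ⟨⟨φ x₁, hx₁⟩⟩
  have hAdom : IsDomain Γ(X, U.1) := inferInstance
  obtain ⟨s, ⟨j, hj, rfl⟩, hxD⟩ := exists_mem_chart_of_span φ J U h.eff hJU x₁ hx₁
  set s := c.ψ (Tor.mon K (c.dat.mem j)) ^ e (c.lab j) with hs
  obtain ⟨S⟩ := K73.Toric.nonempty_starChart K c.dat hbox (fun i => e (c.lab i)) hc0 he hj c.ψ c.smooth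
  have hsmem : ∀ i, 0 < a (c.lab i) → c.ψ (Tor.mon K (c.dat.mem i)) ^ e (c.lab i) ∈ J.ideal U := by
    intro i hi
    rw [hJU]
    exact Ideal.subset_span ⟨i, hi, rfl⟩
  have hs0 : s ≠ 0 := pow_ne_zero _ (map_mon_ne_zero c.ψ c.smooth _)
  have hJ : (J.ideal U).map S.ι = Ideal.span {S.ι s} := by
    apply le_antisymm
    · rw [hJU, Ideal.map_span, Ideal.span_le]
      rintro _ ⟨_, ⟨i, hi, rfl⟩, rfl⟩
      by_cases hij : i = j
      · subst hij
        exact Ideal.mem_span_singleton_self _
      · rw [SetLike.mem_coe, Ideal.mem_span_singleton]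
        exact ⟨_, S.mon_pos i hij hi⟩
    · rw [Ideal.span_singleton_le_iff_mem]
      exact Ideal.mem_map_of_mem _ (hsmem j hj)
  have up : StarGeo.UP S.ι (J.ideal U) s := by
    intro B _ _ _ g hg hdiv
    exact S.lift g hg fun i hi => hdiv _ (hsmem i hi)
  obtain ⟨hD, θ, hθ⟩ := StarGeo.exists_chart_equiv h U s (hsmem j hj) hs0 S.ι S.ι_inj hJ up ⟨x₁, hxD⟩
  let V : X₁.affineOpens := ⟨chart φ J U s, hD⟩
  have hVU : V.1 ≤ φ ⁻¹ᵁ U.1 := chart_le φ J U s
  have hNe : Nonempty V.1 := ⟨⟨x₁, hxD⟩⟩
  have hBdom : IsDomain Γ(X₁, V.1) := inferInstance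
  -- the ideal of the exceptional divisor
  have hE : (J.comap φ).ideal V = Ideal.span {θ (S.ι s)} := by
    rw [hθ]
    exact ideal_chart φ J U s hD
  have hgs0 : θ (S.ι s) ≠ 0 := by
    intro h0
    apply hs0
    apply S.ι_inj
    apply θ.injective
    rw [h0, map_zero, map_zero]
  have hcomap : ∀ (G : X.IdealSheafData), (G.comap φ).ideal V =
      ((G.ideal U).map S.ι).map (θ : S.T →+* Γ(X₁, V.1)) := by
    intro G
    rw [ideal_comap G φ U V hVU, Ideal.map_map]
    congr 1
    ext z
    exact (hθ z).symm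
  have hcomap1 : ∀ i, ((F (c.lab i)).comap φ).ideal V =
      Ideal.span {θ (S.ι (c.ψ (Tor.mon K (c.dat.mem i))))} := by
    intro i
    rw [hcomap, c.ideal_lab i, Ideal.map_span, Set.image_singleton, Ideal.map_span, Set.image_singleton]
    rfl
  have hcomap2 : ∀ i, ((F (c.lab i) ^ e (c.lab i)).comap φ).ideal V =
      Ideal.span {θ (S.ι (c.ψ (Tor.mon K (c.dat.mem i)) ^ e (c.lab i)))} := by
    intro i
    rw [hcomap, Scheme.IdealSheafData.ideal_pow, Pi.pow_apply, c.ideal_lab i, Ideal.span_singleton_pow,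
      Ideal.map_span, Set.image_singleton, Ideal.map_span, Set.image_singleton]
    rfl
  let lab' : c.I → Option ι := fun i => if i = j then none else some (c.lab i)
  have hlabj : lab' j = none := if_pos rfl
  have hlabi : ∀ i, i ≠ j → lab' i = some (c.lab i) := fun i hi => if_neg hi
  have hlab_inj : Injective lab' := by
    intro i i' hii
    by_cases hi : i = j
    · by_cases hi' : i' = j
      · rw [hi, hi']
      · rw [hi, hlabj, hlabi i' hi'] at hii
        exact absurd hii.symm (Option.some_ne_none _)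
    · by_cases hi' : i' = j
      · rw [hi', hlabj, hlabi i hi] at hii
        exact absurd hii (Option.some_ne_none _)
      · rw [hlabi i hi, hlabi i' hi'] at hii
        exact c.lab_inj (Option.some_injective _ hii)
  let c' : FChart (φ ≫ p) F' V :=
    { P := c.P
      I := c.I
      v := update c.v j w
      lab := lab'
      lab_inj := hlab_inj
      dat := S.D'
      ψ := (θ : S.T →+* Γ(X₁, V.1)).comp S.ψ'
      ψ_k := by
        intro k
        have h1 := DFunLike.congr_fun S.comp (AddMonoidAlgebra.single 0 k)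
        have h2 : Tor.incl K S.cone_le (AddMonoidAlgebra.single 0 k) = AddMonoidAlgebra.single 0 k := by
          rw [Tor.incl, AddMonoidAlgebra.mapDomainRingHom_apply, AddMonoidAlgebra.mapDomain_single, map_zero]
        rw [RingHom.comp_apply, h2, RingHom.comp_apply] at h1
        change θ (S.ψ' (AddMonoidAlgebra.single 0 k)) = _
        rw [h1, hθ, c.ψ_k]
        exact kmap_comp p φ U.1 V.1 hVU k
      smooth := S.smooth.comp (RingHom.Smooth.of_bijective θ.bijective)
      ideal_lab := by
        intro i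
        change (F' (lab' i)).ideal V = Ideal.span {θ (S.ψ' (Tor.mon K (S.D'.mem i)))}
        by_cases hi : i = j
        · subst hi
          rw [hlabj, hF0, hE, S.mon_self]
        · rw [hlabi i hi]
          rcases (ha0 (c.lab i)).lt_or_eq with hai | hai
          · have h1 := congrArg (fun G => G.ideal V) (hF1 _ hai)
            simp only [Scheme.IdealSheafData.ideal_mul, Pi.mul_apply] at h1
            rw [hE, hcomap2 i, S.mon_pos i hi hai, map_mul, ← Ideal.span_singleton_mul_span_singleton,
              mul_comm] at h1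
            exact (Ideal.span_singleton_mul_right_inj hgs0).mp h1
          · rw [hF2 _ hai.symm, hcomap1 i, S.mon_zero i hai.symm]
      ideal_notMem := by
        intro l' hl'
        rcases l' with _ | l
        · exact absurd ⟨j, hlabj⟩ hl'
        · by_cases hl : l ∈ Set.range c.lab
          · obtain ⟨i, rfl⟩ := hl
            by_cases hi : i = j
            · subst hi
              have h1 := congrArg (fun G => G.ideal V) (hF1 _ hj)
              simp only [Scheme.IdealSheafData.ideal_mul, Pi.mul_apply] at h1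
              rw [hE, hcomap2 i, mul_comm] at h1
              have h2 : Ideal.span {θ (S.ι s)} * (F' (some (c.lab i))).ideal V =
                  Ideal.span {θ (S.ι s)} * ⊤ := by
                rw [Ideal.mul_top]
                exact h1
              exact (Ideal.span_singleton_mul_right_inj hgs0).mp h2
            · exact absurd ⟨i, hlabi i hi⟩ hl'
          · have hal0 : a l = 0 := by
              rcases (ha0 l).lt_or_eq with hai | hai
              · exact absurd (hal l hai) hl
              · exact hai.symm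
            rw [hF2 _ hal0, hcomap, c.ideal_notMem l hl, Ideal.map_top, Ideal.map_top] }
  exact ⟨V, hxD, c', S.mult_lt⟩

end K937.StarThm
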