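import Groth.Agent.Ega4late.H534.FlatDiv
import Groth.Agent.CalgB.SmoothReduced
import Mathlib.RingTheory.Ideal.AssociatedPrime.Finiteness
import Mathlib.RingTheory.LocalRing.ResidueField.Fiber

/-!
# Lemma V of the S19921 project

`B` a Noetherian integrally closed domain, `b ≠ 0`, `C` a flat `B`-algebra such that `C ⊗ κ(P)` is reduced for
every prime `P` of height one containing `b`.  If `f ∈ C` and `f ^ N ∈ b C`, `N > 0`, then `f` is in the ideal
of `C` generated by the `x ∈ B` with `x ^ N ∈ b B`.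
-/

set_option autoImplicit false
universe u

open TensorProduct

namespace K937.LemmaV

open Groth.Agent

section RootIdeal

variable {B : Type u} [CommRing B] [IsDomain B] [IsIntegrallyClosed B]

theorem dvd_pow_mul_pow {b x y : B} {N i j : ℕ} (hN : N ≠ 0) (hx : b ∣ x ^ N) (hy : b ∣ y ^ N)
    (hij : i + j = N) : b ∣ x ^ i * y ^ j := by
  rw [← IsIntegrallyClosed.pow_dvd_pow_iff hN]
  obtain ⟨u, hu⟩ := hx
  obtain ⟨v, hv⟩ := hy
  refine ⟨u ^ i * v ^ j, ?_⟩
  rw [mul_pow, ← pow_mul, ← pow_mul, mul_comm i N, mul_comm j N, pow_mul, pow_mul, hu, hv, mul_pow,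
    mul_pow, ← hij, pow_add]
  ring

/-- The ideal `{x | x ^ N ∈ b B}`. -/
def root (b : B) (N : ℕ) (hN : N ≠ 0) : Ideal B where
  carrier := {x | b ∣ x ^ N}
  zero_mem' := by simp [zero_pow hN]
  add_mem' := by
    intro x y hx hy
    change b ∣ (x + y) ^ N
    rw [add_pow]
    refine Finset.dvd_sum fun i hi => ?_
    refine Dvd.dvd.mul_right ?_ _
    exact dvd_pow_mul_pow hN hx hy (Nat.add_sub_cancel' (Nat.lt_succ_iff.mp (Finset.mem_range.mp hi)))
  smul_mem' := by
    intro c x hx
    change b ∣ (c * x) ^ N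
    rw [mul_pow]
    exact Dvd.dvd.mul_left hx _

theorem mem_root {b : B} {N : ℕ} {hN : N ≠ 0} {x : B} : x ∈ root b N hN ↔ b ∣ x ^ N := Iff.rfl

theorem self_mem_root (b : B) {N : ℕ} (hN : N ≠ 0) : b ∈ root b N hN := dvd_pow_self b hN

/-- Associated primes of `B / root b N`. -/
theorem assoc_root [IsNoetherianRing B] {b : B} (hb : b ≠ 0) {N : ℕ} {hN : N ≠ 0} {P : Ideal B}
    (hP : P ∈ associatedPrimes B (B ⧸ root b N hN)) :
    ∃ _ : P.IsPrime, b ∈ P ∧ P.height = 1 ∧ IsDiscreteValuationRing (Localization.AtPrime P) := by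
  rw [Ega4B.Zariski.mem_associatedPrimes_quotient_iff] at hP
  obtain ⟨hpp, y, hy⟩ := hP
  have hyJ : y ^ N ∉ Ideal.span {b} := by
    intro h
    apply hpp.ne_top
    rw [Ideal.eq_top_iff_one, hy, one_mul]
    exact Ideal.mem_span_singleton.mp h
  obtain ⟨P', hP', hbP', hdvr, hs⟩ := Etalg.NormalDvr.exists_dvr_prime_of_notMem_span B hb hyJ
  have hbP : b ∈ P := (hy b).mpr (Ideal.mul_mem_right _ _ (self_mem_root b hN))
  have hle : P ≤ P' := by
    intro s hs'
    have h1 : b ∣ (s * y) ^ N := (hy s).mp hs'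
    rw [mul_pow] at h1
    exact hP'.mem_of_pow_mem _ (hs _ (Ideal.mem_span_singleton.mpr h1))
  have hht : P'.height = 1 := Etalg.NormalDvr.height_eq_one_of_dvr B P' hdvr
  have heq : P = P' := by
    by_contra hne
    have hlt : P < P' := lt_of_le_of_ne hle hne
    have h1 : P.height + 1 ≤ P'.height := Ideal.height_add_one_le_of_lt_of_isPrime hlt
    have h2 : P.height ≠ 0 := by
      intro h0
      rw [Ideal.height_eq_zero_iff_eq_bot] at h0
      rw [h0] at hbP
      exact hb hbP
    have h3 : 1 ≤ P.height := Order.one_le_iff_pos.mpr (pos_iff_ne_zero.mpr h2)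
    rw [hht] at h1
    have h4 : (1 : ℕ∞) + 1 ≤ 1 := (add_le_add_left h3 1).trans h1
    exact absurd h4 (by norm_num)
  subst heq
  exact ⟨hP', hbP, hht, hdvr⟩

end RootIdeal

section Flat

variable {B C : Type u} [CommRing B] [CommRing C] [Algebra B C]

/-- Membership in `J C` can be checked at the associated primes of `B / J` when `C` is flat over `B`. -/
theorem mem_map_of_assoc [IsNoetherianRing B] [Module.Flat B C] (J : Ideal B) (f : C)
    (h : ∀ P ∈ associatedPrimes B (B ⧸ J), ∃ s ∉ P, algebraMap B C s * f ∈ J.map (algebraMap B C)) :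
    f ∈ J.map (algebraMap B C) := by
  classical
  let 𝔞 : Ideal B := Submodule.comap (LinearMap.toSpanSingleton B C f)
    ((J.map (algebraMap B C)).restrictScalars B)
  have hmem : ∀ s, s ∈ 𝔞 ↔ algebraMap B C s * f ∈ J.map (algebraMap B C) := by
    intro s
    change s • f ∈ J.map (algebraMap B C) ↔ _
    rw [Algebra.smul_def]
  have h1 : ¬ ((𝔞 : Set B) ⊆ ⋃ P ∈ associatedPrimes B (B ⧸ J), (P : Set B)) := by
    intro hsub
    have := (Ideal.subset_union_prime_finite (f := id) (associatedPrimes.finite B (B ⧸ J)) ⊥ ⊥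
      (fun P hP _ _ => hP.isPrime)).mp hsub
    obtain ⟨P, hP, hle⟩ := this
    obtain ⟨s, hs, hsf⟩ := h P hP
    exact hs (hle ((hmem s).mpr hsf))
  rw [biUnion_associatedPrimes_eq_zero_divisors] at h1
  obtain ⟨s, hs, hs'⟩ := Set.not_subset.mp h1
  have hreg : ∀ x : B ⧸ J, s • x = 0 → x = 0 := by
    intro x hx
    by_contra hne
    exact hs' ⟨x, hne, hx⟩
  have hinj : Function.Injective ((LinearMap.lsmul B (B ⧸ J) s).lTensor C) := by
    apply Module.Flat.lTensor_preserves_injective_linearMap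
    rw [injective_iff_map_eq_zero]
    exact hreg
  rw [← Ega4late.H534.FlatDiv.tmul_one_eq_zero_iff]
  apply hinj
  rw [map_zero, LinearMap.lTensor_tmul, LinearMap.lsmul_apply, TensorProduct.tmul_smul,
    TensorProduct.smul_tmul', Algebra.smul_def, Ega4late.H534.FlatDiv.tmul_one_eq_zero_iff]
  exact (hmem s).mp hs

/-- The local step: near a prime `P` of height one with `C ⊗ κ(P)` reduced. -/
theorem exists_local [IsDomain B] [IsIntegrallyClosed B] [Module.Flat B C] {b : B} (hb : b ≠ 0)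
    {N : ℕ} (hN : N ≠ 0) {f : C} (hf : algebraMap B C b ∣ f ^ N) (P : Ideal B) [hP : P.IsPrime]
    (hdvr : IsDiscreteValuationRing (Localization.AtPrime P))
    (hred : ∀ (g : C) (n : ℕ), g ^ n ∈ P.map (algebraMap B C) →
      ∃ s ∉ P, algebraMap B C s * g ∈ P.map (algebraMap B C)) :
    ∃ s ∉ P, algebraMap B C s * f ∈ (root b N hN).map (algebraMap B C) := by
  obtain ⟨π, hπP, hπ0, hπ, hπa⟩ := Ega4late.H534.FlatDiv.exists_uniformizer P hdvr
  obtain ⟨k, s₀, s₀', hs₀, hs₀', hsb⟩ := hπa b hb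
  have h1P : (1 : B) ∉ P := fun h => hP.ne_top ((Ideal.eq_top_iff_one P).mpr h)
  have hmulP : ∀ {s t : B}, s ∉ P → t ∉ P → s * t ∉ P := fun hs ht h =>
    (hP.mem_or_mem h).elim hs ht
  have hpowP : ∀ {s : B} (n : ℕ), s ∉ P → s ^ n ∉ P := fun n hs h => hs (hP.mem_of_pow_mem n h)
  -- elements of `P C` are divisible by `π` up to units at `P`
  have hdiv : ∀ c ∈ P.map (algebraMap B C), ∃ s ∉ P, ∃ c' : C,
      algebraMap B C s * c = algebraMap B C π * c' := by
    intro c hc
    refine Submodule.span_induction (p := fun c _ => ∃ s ∉ P, ∃ c' : C,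
      algebraMap B C s * c = algebraMap B C π * c') ?_ ?_ ?_ ?_ hc
    · rintro _ ⟨x, hx, rfl⟩
      obtain ⟨s, hs, hsx⟩ := hπ x hx
      obtain ⟨r, hr⟩ := Ideal.mem_span_singleton'.mp hsx
      exact ⟨s, hs, algebraMap B C r, by rw [← map_mul, ← hr, map_mul, mul_comm]⟩
    · exact ⟨1, h1P, 0, by simp⟩
    · rintro x y _ _ ⟨s, hs, c, hc⟩ ⟨t, ht, d, hd⟩
      refine ⟨s * t, hmulP hs ht, algebraMap B C t * c + algebraMap B C s * d, ?_⟩
      rw [map_mul]
      linear_combination (algebraMap B C t) * hc + (algebraMap B C s) * hd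
    · rintro r x _ ⟨s, hs, c, hc⟩
      refine ⟨s, hs, r * c, ?_⟩
      rw [smul_eq_mul]
      linear_combination r * hc
  have hreg : ∀ (n : ℕ) (c d : C), algebraMap B C (π ^ n) * c = algebraMap B C (π ^ n) * d → c = d := by
    intro n c d hcd
    have h1 : IsSMulRegular B (π ^ n) := by
      rw [isSMulRegular_iff_right_eq_zero_of_smul]
      intro y hy
      exact (mul_eq_zero.mp hy).resolve_left (pow_ne_zero n hπ0)
    have h2 : IsSMulRegular C (algebraMap B C (π ^ n)) := h1.of_flat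
    exact h2 hcd
  obtain ⟨c, hc⟩ := hf
  -- `s f ∈ π ^ j C` as long as `(j - 1) N < k`
  have key : ∀ j : ℕ, (∀ i < j, i * N < k) → ∃ s ∉ P, ∃ g : C,
      algebraMap B C s * f = algebraMap B C (π ^ j) * g := by
    intro j
    induction j with
    | zero => intro _; exact ⟨1, h1P, f, by simp⟩
    | succ j ih =>
      intro hj
      obtain ⟨s, hs, g, hg⟩ := ih fun i hi => hj i (Nat.lt_succ_of_lt hi)
      have hjk : j * N < k := hj j (Nat.lt_succ_self j)
      obtain ⟨m, hm⟩ := Nat.exists_eq_add_of_lt hjk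
      -- `s₀ g ^ N ∈ π C`
      have h1 : algebraMap B C (π ^ (j * N)) * (algebraMap B C s₀ * g ^ N) =
          algebraMap B C (π ^ (j * N)) *
            (algebraMap B C π * (algebraMap B C (π ^ m * (s₀' * s ^ N)) * c)) := by
        have h2 : (algebraMap B C s * f) ^ N = (algebraMap B C (π ^ j) * g) ^ N := by rw [hg]
        rw [mul_pow, mul_pow, hc] at h2
        have h3 : algebraMap B C s₀ * algebraMap B C b = algebraMap B C s₀' * algebraMap B C (π ^ k) := by
          rw [← map_mul, hsb, map_mul]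
        have h4 : algebraMap B C (π ^ k) = algebraMap B C (π ^ (j * N)) *
            (algebraMap B C π * algebraMap B C (π ^ m)) := by
          rw [← map_mul, ← map_mul, hm]; congr 1; ring
        have h5 : (algebraMap B C (π ^ j)) ^ N = algebraMap B C (π ^ (j * N)) := by
          rw [← map_pow, ← pow_mul]
        rw [h5] at h2
        rw [h4] at h3
        simp only [map_mul, map_pow] at h2 h3 ⊢
        linear_combination (-(algebraMap B C s₀)) * h2 + (algebraMap B C s) ^ N * c * h3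
      have h2 := hreg _ _ _ h1
      have h3 : (algebraMap B C s₀ * g) ^ N ∈ P.map (algebraMap B C) := by
        obtain ⟨N', rfl⟩ := Nat.exists_eq_succ_of_ne_zero hN
        rw [mul_pow, pow_succ, mul_assoc]
        refine Ideal.mul_mem_left _ _ ?_
        rw [h2]
        exact Ideal.mul_mem_right _ _ (Ideal.mem_map_of_mem _ hπP)
      obtain ⟨t, ht, htg⟩ := hred _ _ h3
      obtain ⟨t', ht', g', hg'⟩ := hdiv _ htg
      refine ⟨t' * t * s₀ * s, hmulP (hmulP (hmulP ht' ht) hs₀) hs, g', ?_⟩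
      rw [pow_succ]
      simp only [map_mul, map_pow] at hg hg' ⊢
      linear_combination (algebraMap B C t' * algebraMap B C t * algebraMap B C s₀) * hg +
        (algebraMap B C π) ^ j * hg'
  -- take `n` minimal with `k ≤ n N`
  have hex : ∃ n : ℕ, k ≤ n * N := ⟨k, Nat.le_mul_of_pos_right k (Nat.pos_of_ne_zero hN)⟩
  classical
  let n := Nat.find hex
  have hn : k ≤ n * N := Nat.find_spec hex
  obtain ⟨s, hs, g, hg⟩ := key n fun i hi => by
    have := Nat.find_min hex hi
    omega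
  refine ⟨s₀' * s, hmulP hs₀' hs, ?_⟩
  have h1 : s₀' * π ^ n ∈ root b N hN := by
    rw [mem_root, mul_pow, ← pow_mul]
    obtain ⟨m, hm⟩ := Nat.exists_eq_add_of_le hn
    obtain ⟨N', rfl⟩ := Nat.exists_eq_succ_of_ne_zero hN
    rw [hm]
    refine ⟨s₀' ^ N' * s₀ * π ^ m, ?_⟩
    rw [pow_succ, pow_add]
    linear_combination (-(s₀' ^ N' * π ^ m)) * hsb
  have h2 : algebraMap B C (s₀' * s) * f = algebraMap B C (s₀' * π ^ n) * g := by
    rw [map_mul, map_mul]
    linear_combination (algebraMap B C s₀') * hg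
  rw [h2]
  exact Ideal.mul_mem_right _ _ (Ideal.mem_map_of_mem _ h1)

/-- **Lemma V**, elementary form. -/
theorem mem_map_root [IsDomain B] [IsIntegrallyClosed B] [IsNoetherianRing B] [Module.Flat B C]
    {b : B} (hb : b ≠ 0) {N : ℕ} (hN : N ≠ 0) {f : C} (hf : algebraMap B C b ∣ f ^ N)
    (hred : ∀ P : Ideal B, P.IsPrime → P.height = 1 → b ∈ P → ∀ (g : C) (n : ℕ),
      g ^ n ∈ P.map (algebraMap B C) → ∃ s ∉ P, algebraMap B C s * g ∈ P.map (algebraMap B C)) :
    f ∈ (root b N hN).map (algebraMap B C) := by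
  refine mem_map_of_assoc _ _ fun P hP => ?_
  obtain ⟨hPp, hbP, hht, hdvr⟩ := assoc_root hb hP
  exact exists_local hb hN hf P hdvr (hred P hPp hht hbP)

/-- **Lemma V** with the closed fibres `C / P C` reduced. -/
theorem mem_map_root_of_isReduced_quot [IsDomain B] [IsIntegrallyClosed B] [IsNoetherianRing B]
    [Module.Flat B C] {b : B} (hb : b ≠ 0) {N : ℕ} (hN : N ≠ 0) {f : C}
    (hf : algebraMap B C b ∣ f ^ N)
    (hred : ∀ P : Ideal B, P.IsPrime → P.height = 1 → b ∈ P → IsReduced (C ⧸ P.map (algebraMap B C))) :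
    f ∈ (root b N hN).map (algebraMap B C) := by
  refine mem_map_root hb hN hf fun P hP h1 hbP g n hg => ?_
  have h2 := hred P hP h1 hbP
  refine ⟨1, fun h => hP.ne_top ((Ideal.eq_top_iff_one P).mpr h), ?_⟩
  rw [map_one, one_mul, ← Ideal.Quotient.eq_zero_iff_mem]
  rw [← Ideal.Quotient.eq_zero_iff_mem, map_pow] at hg
  exact IsReduced.eq_zero _ ⟨n, hg⟩

/-- For `C` flat over `B`, `C / P C` is reduced as soon as `κ(P) ⊗ C` is. -/
theorem isReduced_quot_of_fiber [Module.Flat B C] (P : Ideal B) [P.IsPrime]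
    (h : IsReduced (P.Fiber C)) : IsReduced (C ⧸ P.map (algebraMap B C)) := by
  refine ⟨fun x hx => ?_⟩
  obtain ⟨g, rfl⟩ := Ideal.Quotient.mk_surjective x
  obtain ⟨n, hn⟩ := hx
  rw [← map_pow, Ideal.Quotient.eq_zero_iff_mem] at hn
  rw [Ideal.Quotient.eq_zero_iff_mem]
  have h1 : ∀ c ∈ P.map (algebraMap B C), (1 : P.ResidueField) ⊗ₜ[B] c = 0 := by
    intro c hc
    have h2 : P.map (algebraMap B C) ≤
        RingHom.ker (Algebra.TensorProduct.includeRight : C →ₐ[B] P.ResidueField ⊗[B] C).toRingHom := by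
      rw [Ideal.map_le_iff_le_comap]
      intro x hx
      change (1 : P.ResidueField) ⊗ₜ[B] (algebraMap B C x) = 0
      rw [Algebra.algebraMap_eq_smul_one, TensorProduct.tmul_smul, TensorProduct.smul_tmul',
        ← Algebra.algebraMap_eq_smul_one, Ideal.algebraMap_residueField_eq_zero.mpr hx,
        TensorProduct.zero_tmul]
    exact h2 hc
  have h2 : (1 : P.ResidueField) ⊗ₜ[B] g = 0 := by
    refine IsReduced.eq_zero _ ⟨n, ?_⟩
    rw [Algebra.TensorProduct.tmul_pow, one_pow]
    exact h1 _ hn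
  -- `C ⊗ B/P → C ⊗ κ(P)` is injective
  have hP0 : ∀ a ∈ P, (Algebra.ofId B P.ResidueField) a = 0 := fun a ha =>
    Ideal.algebraMap_residueField_eq_zero.mpr ha
  let ι : (B ⧸ P) →ₗ[B] P.ResidueField :=
    (Ideal.Quotient.liftₐ P (Algebra.ofId B P.ResidueField) hP0).toLinearMap
  have hι : Function.Injective ι := by
    rw [injective_iff_map_eq_zero]
    intro y hy
    obtain ⟨y, rfl⟩ := Ideal.Quotient.mk_surjective y
    rw [Ideal.Quotient.eq_zero_iff_mem]
    exact Ideal.algebraMap_residueField_eq_zero.mp hy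
  have hinj : Function.Injective (ι.lTensor C) := Module.Flat.lTensor_preserves_injective_linearMap _ hι
  rw [← Ega4late.H534.FlatDiv.tmul_one_eq_zero_iff]
  apply hinj
  rw [map_zero, LinearMap.lTensor_tmul]
  have h3 : ι 1 = 1 := map_one (Ideal.Quotient.liftₐ P (Algebra.ofId B P.ResidueField) hP0)
  rw [h3]
  have h4 := congrArg (TensorProduct.comm B P.ResidueField C) h2
  rw [TensorProduct.comm_tmul, map_zero] at h4
  exact h4

/-- **Lemma V** with reduced fibres over the primes of height one containing `b`. -/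
theorem mem_map_root_of_isReduced_fiber [IsDomain B] [IsIntegrallyClosed B] [IsNoetherianRing B]
    [Module.Flat B C] {b : B} (hb : b ≠ 0) {N : ℕ} (hN : N ≠ 0) {f : C}
    (hf : algebraMap B C b ∣ f ^ N)
    (hred : ∀ (P : Ideal B) [P.IsPrime], P.height = 1 → b ∈ P → IsReduced (P.Fiber C)) :
    f ∈ (root b N hN).map (algebraMap B C) :=
  mem_map_root_of_isReduced_quot hb hN hf fun P _ h1 hbP =>
    isReduced_quot_of_fiber P (hred P h1 hbP)

/-- Closed fibres of a smooth algebra over primes are reduced. -/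
theorem isReduced_quot_of_smooth [Algebra.Smooth B C] (P : Ideal B) [P.IsPrime] :
    IsReduced (C ⧸ P.map (algebraMap B C)) := by
  have h1 : IsReduced ((B ⧸ P) ⊗[B] C) :=
    Groth.Agent.CalgB.SmoothReduced.isReduced_of_smooth (B ⧸ P) ((B ⧸ P) ⊗[B] C)
  have e : (C ⧸ P.map (algebraMap B C)) ≃+* ((B ⧸ P) ⊗[B] C) :=
    (Algebra.TensorProduct.quotIdealMapEquivTensorQuot C P).toRingEquiv.trans
      (Algebra.TensorProduct.comm B C (B ⧸ P)).toRingEquiv
  exact isReduced_of_injective e.toRingHom e.injective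

/-- Localization preserves reducedness of closed fibres. -/
theorem isReduced_quot_of_isLocalization {O : Type u} [CommRing O] [Algebra C O] [Algebra B O]
    [IsScalarTower B C O] (M : Submonoid C) [IsLocalization M O] (P : Ideal B)
    (h : IsReduced (C ⧸ P.map (algebraMap B C))) : IsReduced (O ⧸ P.map (algebraMap B O)) := by
  refine ⟨fun x hx => ?_⟩
  obtain ⟨g, rfl⟩ := Ideal.Quotient.mk_surjective x
  obtain ⟨n, hn⟩ := hx
  rw [← map_pow, Ideal.Quotient.eq_zero_iff_mem] at hn
  rw [Ideal.Quotient.eq_zero_iff_mem]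
  rw [IsScalarTower.algebraMap_eq B C O, ← Ideal.map_map] at hn ⊢
  obtain ⟨⟨a, s⟩, has⟩ := IsLocalization.surj M g
  simp only at has
  have h1 : algebraMap C O (a ^ n) ∈ (P.map (algebraMap B C)).map (algebraMap C O) := by
    rw [map_pow, ← has, mul_pow]
    exact Ideal.mul_mem_right _ _ hn
  rw [IsLocalization.algebraMap_mem_map_algebraMap_iff M] at h1
  obtain ⟨t, ht, hta⟩ := h1
  have h2 : t * a ∈ P.map (algebraMap B C) := by
    rw [← Ideal.Quotient.eq_zero_iff_mem]
    refine IsReduced.eq_zero _ ⟨n + 1, ?_⟩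
    rw [← map_pow, Ideal.Quotient.eq_zero_iff_mem, mul_pow, pow_succ t, pow_succ a]
    have : t ^ n * t * (a ^ n * a) = (t ^ n * a) * (t * a ^ n) := by ring
    rw [this]
    exact Ideal.mul_mem_left _ _ hta
  have hu : IsUnit (algebraMap C O (t * s)) := IsLocalization.map_units O (⟨t * s, M.mul_mem ht s.2⟩ : M)
  have h3 : algebraMap C O (t * s) * g ∈ (P.map (algebraMap B C)).map (algebraMap C O) := by
    have : algebraMap C O (t * s) * g = algebraMap C O (t * a) := by
      rw [map_mul, map_mul, ← has]; ring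
    rw [this]
    exact Ideal.mem_map_of_mem _ h2
  obtain ⟨u, hu⟩ := hu
  rw [← hu] at h3
  have h4 := Ideal.mul_mem_left _ (↑u⁻¹ : O) h3
  rwa [← mul_assoc, Units.inv_mul, one_mul] at h4

end Flat

end K937.LemmaV
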