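import Groth.Agent.Resolve.K891.Cut2
import Groth.Agent.Resolve.K937.LemmaV
import Groth.Agent.Dix.NormalLoc

/-!
# Node C of the resolution project: descent of the monomials (PartI)

`K937.PartI.main : K891.Cut.PartI K`: the monomials `τ m` of a strictly henselian Kummer chart `S` of `(B, q)` can be
replaced by a monoid homomorphism with values in `B_q`, up to units of `S`.
-/

set_option autoImplicit false
universe u

namespace K937.PartI

open K84.Iface K891.Cut IsLocalRing Groth.Agent

section Ext

variable {M Λ : Type*} [AddCommGroup M] [AddCommGroup Λ]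

/-- extension of a homomorphism from a generating submonoid -/
theorem exists_ext (Q : AddSubmonoid M) (hQ : ∀ m, ∃ p ∈ Q, ∃ p' ∈ Q, m = p - p') (g : Q →+ Λ) :
    ∃ θ : M →+ Λ, ∀ q : Q, θ q = g q := by
  have key : ∀ (a b c d : Q), (a : M) - b = c - d → g a - g b = g c - g d := by
    intro a b c d h
    have h1 : a + d = c + b := Subtype.ext (by
      rw [AddSubmonoid.coe_add, AddSubmonoid.coe_add]
      exact sub_eq_sub_iff_add_eq_add.mp h)
    have h2 := congrArg g h1
    rw [map_add, map_add] at h2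
    exact sub_eq_sub_iff_add_eq_add.mpr h2
  choose p hp p' hp' h using hQ
  refine ⟨AddMonoidHom.mk' (fun m => g ⟨p m, hp m⟩ - g ⟨p' m, hp' m⟩) fun m n => ?_, fun q => ?_⟩
  · have h1 := key ⟨p (m + n), hp _⟩ ⟨p' (m + n), hp' _⟩ (⟨p m, hp m⟩ + ⟨p n, hp n⟩)
      (⟨p' m, hp' m⟩ + ⟨p' n, hp' n⟩) (by
        change p (m + n) - p' (m + n) = (p m + p n) - (p' m + p' n)
        rw [← h (m + n)]
        conv_lhs => rw [h m, h n]
        abel)
    change g ⟨p (m + n), hp _⟩ - g ⟨p' (m + n), hp' _⟩ = _
    rw [h1, map_add, map_add]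
    abel
  · have h1 := key ⟨p q, hp _⟩ ⟨p' q, hp' _⟩ q 0 (by
      rw [AddSubmonoid.coe_zero, sub_zero]
      exact (h q).symm)
    change g ⟨p q, hp _⟩ - g ⟨p' q, hp' _⟩ = _
    rw [h1, map_zero, sub_zero]

theorem exists_lift [Module.Free ℤ M] {G : Type*} [AddCommGroup G] (Q : AddSubmonoid M)
    (hQ : ∀ m, ∃ p ∈ Q, ∃ p' ∈ Q, m = p - p') (R : AddSubgroup G) (S : Q → G)
    (hS : ∀ q q', -S (q + q') + (S q + S q') ∈ R) :
    ∃ η : M →+ G, ∀ q : Q, -S q + η q ∈ R := by
  let π : G →+ G ⧸ R := QuotientAddGroup.mk' R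
  have hS' : ∀ q q', π (S (q + q')) = π (S q) + π (S q') := by
    intro q q'
    rw [← map_add]
    exact QuotientAddGroup.eq.mpr (hS q q')
  let g : Q →+ G ⧸ R :=
    { toFun := fun q => π (S q)
      map_zero' := by
        have h := hS' 0 0
        rw [add_zero] at h
        exact left_eq_add.mp h
      map_add' := hS' }
  obtain ⟨θ, hθ⟩ := exists_ext Q hQ g
  have hsurj : Function.Surjective π.toIntLinearMap := QuotientAddGroup.mk'_surjective R
  obtain ⟨η, hη⟩ := Module.projective_lifting_property π.toIntLinearMap θ.toIntLinearMap hsurj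
  refine ⟨η.toAddMonoidHom, fun q => ?_⟩
  have h1 : π (η q) = π (S q) := (LinearMap.congr_fun hη (q : M)).trans (hθ q)
  exact QuotientAddGroup.eq.mp h1.symm

/-- multiplicative choice of generators -/
theorem exists_mul_choice [Module.Free ℤ M] (Q : AddSubmonoid M)
    (hQ : ∀ m, ∃ p ∈ Q, ∃ p' ∈ Q, m = p - p') {O : Type*} [CommRing O] [IsDomain O] (s : Q → O)
    (hs0 : ∀ q, s q ≠ 0) (hs : ∀ q q', Associated (s (q + q')) (s q * s q')) :
    ∃ σ : Multiplicative Q →* O, ∀ q : Q, Associated (σ (Multiplicative.ofAdd q)) (s q) := by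
  classical
  let F := FractionRing O
  have hinj : Function.Injective (algebraMap O F) := IsFractionRing.injective O F
  have hF : ∀ q, algebraMap O F (s q) ≠ 0 := fun q h => hs0 q (hinj (by rw [h, map_zero]))
  let ρ : Additive Oˣ →+ Additive Fˣ := MonoidHom.toAdditive (Units.map (algebraMap O F).toMonoidHom)
  let S : Q → Additive Fˣ := fun q => Additive.ofMul (Units.mk0 _ (hF q))
  obtain ⟨η, hη⟩ := exists_lift Q hQ ρ.range S (by
    intro q q'
    obtain ⟨u, hu⟩ := hs q q'
    refine ⟨Additive.ofMul u, ?_⟩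
    rw [eq_neg_add_iff_add_eq]
    apply Additive.toMul.injective
    ext
    change algebraMap O F (s (q + q')) * algebraMap O F u = algebraMap O F (s q) * algebraMap O F (s q')
    rw [← map_mul, ← map_mul, hu])
  have hη' : ∀ q : Q, ∃ u : Oˣ, ((Additive.toMul (η q) : Fˣ) : F) = algebraMap O F (s q * u) := by
    intro q
    obtain ⟨u, hu⟩ := hη q
    rw [eq_neg_add_iff_add_eq] at hu
    refine ⟨Additive.toMul u, ?_⟩
    rw [← hu, map_mul]
    rfl
  choose u hu using hη'
  refine ⟨{ toFun := fun q => s (Multiplicative.toAdd q) * u (Multiplicative.toAdd q)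
            map_one' := ?_
            map_mul' := ?_ }, fun q => ?_⟩
  · apply hinj
    have h1 := hu 0
    rw [AddSubmonoid.coe_zero, map_zero] at h1
    exact h1.symm.trans (map_one (algebraMap O F)).symm
  · intro a b
    apply hinj
    change algebraMap O F (s (Multiplicative.toAdd a + Multiplicative.toAdd b) *
      u (Multiplicative.toAdd a + Multiplicative.toAdd b)) = _
    rw [map_mul (algebraMap O F) (s (Multiplicative.toAdd a) * u (Multiplicative.toAdd a)), ← hu, ← hu,
      ← hu, AddSubmonoid.coe_add, map_add]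
    rfl
  · exact (associated_mul_unit_right (s q) _ (u q).isUnit).symm

end Ext

section Desc

variable {K B : Type u} [Field K] [CommRing B] [Algebra K B] {r : ℕ} {t : Fin r → B} {q : Ideal B}

/-- the monomials are regular elements of `S` -/
theorem tau_mem_nonZeroDivisors (H : SHChart K B t q) (m : pos H.M) :
    H.τ (Multiplicative.ofAdd m) ∈ nonZeroDivisors H.S := by
  algebraize [lift K H.τ]
  have hf : Module.Flat (AddMonoidAlgebra K (pos H.M)) H.S := H.flat
  have hx : algebraMap (AddMonoidAlgebra K (pos H.M)) H.S (AddMonoidAlgebra.single m 1) =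
      H.τ (Multiplicative.ofAdd m) := by
    change (AddMonoidAlgebra.lift K H.S (pos H.M) H.τ) (AddMonoidAlgebra.single m 1) = _
    rw [AddMonoidAlgebra.lift_single, one_smul]
  have h1 : IsSMulRegular (AddMonoidAlgebra K (pos H.M)) (AddMonoidAlgebra.single m (1 : K)) := by
    intro x y hxy
    simp only [smul_eq_mul] at hxy
    ext b
    have h2 := congrArg (fun z => z.coeff (m + b)) hxy
    simpa [AddMonoidAlgebra.coeff_single_mul_add] using h2
  have h3 := h1.of_flat (S := H.S)
  rw [hx] at h3
  rw [mem_nonZeroDivisors_iff]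
  constructor
  · intro z hz
    exact h3 (by simpa using hz)
  · intro z hz
    refine h3 ?_
    rw [mul_comm] at hz
    simpa using hz

/-- a power of a monomial is a monomial in the `t i` -/
theorem exists_pow_eq (H : SHChart K B t q) (m : pos H.M) :
    ∃ (N : ℕ) (b : B), N ≠ 0 ∧ H.τ (Multiplicative.ofAdd m) ^ N = algebraMap B H.S b := by
  classical
  let N := ∏ i : H.I, H.d i
  have hN : N ≠ 0 := Finset.prod_ne_zero_iff.mpr fun i _ => (H.d_pos i).ne'
  let k : H.I → ℕ := fun i => (m.1 i).toNat * (N / H.d i)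
  let x : H.I → pos H.M := fun i => ⟨ax i (H.d i : ℤ), H.d_mem i, ax_nonneg i (by positivity)⟩
  have hk : N • m = ∑ i, k i • x i := by
    apply Subtype.ext
    rw [AddSubmonoid.coe_finsetSum]
    funext l
    rw [AddSubmonoidClass.coe_nsmul, Finset.sum_apply, Finset.sum_eq_single l]
    · rw [AddSubmonoidClass.coe_nsmul, Pi.smul_apply, Pi.smul_apply, nsmul_eq_mul, nsmul_eq_mul]
      change (N : ℤ) * m.1 l = (k l : ℤ) * ax l (H.d l : ℤ) l
      rw [ax_self]
      have h1 : (N / H.d l) * H.d l = N :=
        Nat.div_mul_cancel (Finset.dvd_prod_of_mem _ (Finset.mem_univ l))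
      have h2 : ((m.1 l).toNat : ℤ) = m.1 l := Int.toNat_of_nonneg (m.2.2 l)
      change (N : ℤ) * m.1 l = (((m.1 l).toNat * (N / H.d l) : ℕ) : ℤ) * (H.d l : ℤ)
      rw [Nat.cast_mul, h2, mul_assoc, ← Nat.cast_mul, h1, mul_comm]
    · intro i _ hi
      rw [AddSubmonoidClass.coe_nsmul, Pi.smul_apply]
      change k i • ax i (H.d i : ℤ) l = 0
      rw [ax_ne hi.symm, smul_zero]
    · intro h; exact absurd (Finset.mem_univ l) h
  refine ⟨N, ∏ i : H.I, t i ^ k i, hN, ?_⟩
  rw [← map_pow, ← ofAdd_nsmul, hk, ofAdd_sum, map_prod, map_prod]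
  refine Finset.prod_congr rfl fun i _ => ?_
  rw [ofAdd_nsmul, map_pow, map_pow, H.τ_ax i]

/-- up to a unit of `S` the monomials come from `B` -/
theorem exists_assoc [IsDomain B] [IsIntegrallyClosed B] [IsNoetherianRing B] (H : SHChart K B t q)
    (m : pos H.M) : ∃ s : B, Associated (algebraMap B H.S s) (H.τ (Multiplicative.ofAdd m)) := by
  obtain ⟨N, b, hN, hb⟩ := exists_pow_eq H m
  set τm := H.τ (Multiplicative.ofAdd m) with hτm
  have hreg : τm ∈ nonZeroDivisors H.S := tau_mem_nonZeroDivisors H m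
  have hb0 : b ≠ 0 := by
    rintro rfl
    rw [map_zero] at hb
    exact nonZeroDivisors.ne_zero (pow_mem hreg N) hb
  have hind := H.isIndEtale
  obtain ⟨E, _, _, hE, χ, e, he, hrel⟩ := Groth.Agent.CalgC.IndEtale.IsIndP.exists_stage'
    (R := fun E _ _ => Algebra.Etale B E) hind (ι := Unit) (fun _ => τm)
    {MvPolynomial.X () ^ N - MvPolynomial.C b} (Set.finite_singleton _) (by
      simp only [Set.mem_singleton_iff, forall_eq, map_sub, map_pow, MvPolynomial.aeval_X,
        MvPolynomial.aeval_C]
      rw [hb, sub_self])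
  have hf : e () ^ N = algebraMap B E b := by
    have := hrel _ rfl
    simp only [map_sub, map_pow, MvPolynomial.aeval_X, MvPolynomial.aeval_C] at this
    exact sub_eq_zero.mp this
  have hV : e () ∈ (K937.LemmaV.root b N hN).map (algebraMap B E) :=
    K937.LemmaV.mem_map_root_of_isReduced_quot hb0 hN (Dvd.intro 1 (by rw [mul_one, hf]))
      fun P _ _ _ => K937.LemmaV.isReduced_quot_of_smooth P
  -- the local ring of `E` at the center of `S`
  let 𝔫 : Ideal E := (maximalIdeal H.S).comap (χ : E →+* H.S)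
  have h𝔫 : 𝔫.IsPrime := Ideal.comap_isPrime _ _
  obtain ⟨hd, hic⟩ := Groth.Agent.Dix.NormalLoc.isNormalRing_of_smooth B E 𝔫
  let L := Localization.AtPrime 𝔫
  have hunit : ∀ y : 𝔫.primeCompl, IsUnit ((χ : E →+* H.S) y) := by
    intro y
    by_contra h
    exact y.2 h
  let lam : L →+* H.S := IsLocalization.lift (M := 𝔫.primeCompl) (g := (χ : E →+* H.S)) hunit
  have hlam : ∀ y, lam (algebraMap E L y) = χ y := fun y => IsLocalization.lift_eq _ y
  -- elements of the root ideal are divisible by the monomial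
  have hdvd : ∀ y ∈ K937.LemmaV.root b N hN, τm ∣ algebraMap B H.S y := by
    intro y hy
    have h1 : algebraMap E L (e ()) ^ N ∣ algebraMap E L (algebraMap B E y) ^ N := by
      rw [← map_pow, ← map_pow, hf, ← map_pow]
      exact (algebraMap E L).map_dvd ((algebraMap B E).map_dvd (K937.LemmaV.mem_root.mp hy))
    have h2 := (IsIntegrallyClosed.pow_dvd_pow_iff hN).mp h1
    obtain ⟨c, hc⟩ := h2
    refine ⟨lam c, ?_⟩
    have h3 := congrArg lam hc
    rw [map_mul, hlam, hlam, he, AlgHom.commutes] at h3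
    exact h3
  -- conclusion in the local ring `S`
  have h4 : τm ∈ (K937.LemmaV.root b N hN).map (algebraMap B H.S) := by
    have h5 := Ideal.mem_map_of_mem (χ : E →+* H.S) hV
    rw [Ideal.map_map] at h5
    have h6 : (χ : E →+* H.S).comp (algebraMap B E) = algebraMap B H.S := χ.comp_algebraMap
    rw [h6] at h5
    have h7 : (χ : E →+* H.S) (e ()) = τm := he ()
    rwa [h7] at h5
  by_contra hno
  push Not at hno
  have h8 : (K937.LemmaV.root b N hN).map (algebraMap B H.S) ≤ Ideal.span {τm} * maximalIdeal H.S := by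
    rw [Ideal.map_le_iff_le_comap]
    intro y hy
    obtain ⟨c, hc⟩ := hdvd y hy
    rw [Ideal.mem_comap, hc]
    refine Ideal.mul_mem_mul (Ideal.mem_span_singleton_self _) ?_
    rw [mem_maximalIdeal, mem_nonunits_iff]
    intro hcu
    apply hno y
    rw [hc]
    exact (associated_mul_unit_left τm c hcu)
  have h9 := h8 h4
  rw [Ideal.mem_span_singleton_mul] at h9
  obtain ⟨z, hz, hz'⟩ := h9
  have h10 : z - 1 = 0 := by
    have h11 : τm * (z - 1) = 0 := by rw [mul_sub, hz', mul_one, sub_self]
    exact (mem_nonZeroDivisors_iff.mp hreg).1 _ h11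
  rw [sub_eq_zero] at h10
  rw [h10] at hz
  exact (maximalIdeal.isMaximal H.S).ne_top ((Ideal.eq_top_iff_one _).mpr hz)

end Desc

section Main

variable {K B : Type u} [Field K] [CommRing B] [Algebra K B] {r : ℕ} {t : Fin r → B} {q : Ideal B}
  [q.IsPrime]

theorem dvd_of_dvd (H : SHChart K B t q) {a b : Localization.AtPrime q} (h : H.toLoc a ∣ H.toLoc b) :
    a ∣ b := by
  algebraize [H.toLoc]
  have hst : IsScalarTower B (Localization.AtPrime q) H.S := by
    refine IsScalarTower.of_algebraMap_eq fun x => ?_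
    exact (H.toLoc_algebraMap x).symm
  have hfl : Module.Flat B H.S := Groth.Agent.CalgC.IndEtale.IsInd.flat
    Groth.Agent.CalgC.IndEtale.isGood_etale H.isIndEtale
  have hfl' : Module.Flat (Localization.AtPrime q) H.S :=
    (Module.flat_iff_of_isLocalization (Localization.AtPrime q) q.primeCompl H.S).mpr hfl
  have hloc : IsLocalHom (algebraMap (Localization.AtPrime q) H.S) := by
    constructor
    intro x hx
    obtain ⟨⟨y, s⟩, rfl⟩ := IsLocalization.mk'_surjective q.primeCompl x
    have h1 : IsUnit (H.toLoc (algebraMap B _ y)) := by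
      have h2 : algebraMap B (Localization.AtPrime q) y =
          IsLocalization.mk' (Localization.AtPrime q) y s * algebraMap B _ s := by
        rw [IsLocalization.mk'_spec]
      rw [h2, map_mul]
      exact IsUnit.mul hx ((IsLocalization.map_units (Localization.AtPrime q) s).map H.toLoc)
    rw [H.toLoc_algebraMap] at h1
    have h3 : y ∉ q := by
      intro hy
      rw [← H.comap_maximalIdeal, Ideal.mem_comap] at hy
      exact hy h1
    exact IsLocalization.AtPrime.isUnit_mk'_iff (Localization.AtPrime q) q y s |>.mpr h3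
  have hff : Module.FaithfullyFlat (Localization.AtPrime q) H.S :=
    Module.FaithfullyFlat.of_flat_of_isLocalHom
  rw [← Ideal.mem_span_singleton] at h ⊢
  have h4 : algebraMap (Localization.AtPrime q) H.S b ∈
      (Ideal.span {a}).map (algebraMap (Localization.AtPrime q) H.S) := by
    rw [Ideal.map_span, Set.image_singleton]
    exact h
  rw [← Ideal.mem_comap, Ideal.comap_map_eq_self_of_faithfullyFlat] at h4
  exact h4

end Main

/-- **PartI** -/
theorem main (K : Type u) [Field K] : PartI K := by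
  intro B _ _ _ _ _ r t q _ H
  classical
  have hnoeth : IsNoetherianRing B := Algebra.FiniteType.isNoetherianRing K B
  choose s hs using exists_assoc H
  let O := Localization.AtPrime q
  have hdom : IsDomain O := inferInstance
  let Q : AddSubmonoid H.M := (pos H.M).comap H.M.subtype
  have hQmem : ∀ x : H.M, x ∈ Q ↔ ∀ i, 0 ≤ x.1 i := by
    intro x
    exact ⟨fun h => h.2, fun h => ⟨x.2, h⟩⟩
  let j : Q → pos H.M := fun x => ⟨x.1.1, x.2⟩
  have hfin : Module.Finite ℤ (AddSubgroup.toIntSubmodule H.M) := inferInstance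
  have hfin' : Module.Finite ℤ H.M := hfin
  have hfree : Module.Free ℤ H.M := inferInstance
  let x : H.I → pos H.M := fun i => ⟨ax i (H.d i : ℤ), H.d_mem i, ax_nonneg i (by positivity)⟩
  have hgen : ∀ m : H.M, ∃ p ∈ Q, ∃ p' ∈ Q, m = p - p' := by
    intro m
    let p' : H.M := ∑ i, (m.1 i).natAbs • (⟨ax i (H.d i : ℤ), H.d_mem i⟩ : H.M)
    have hp' : ∀ l, p'.1 l = (m.1 l).natAbs * (H.d l : ℤ) := by
      intro l
      rw [AddSubgroup.val_finsetSum, Finset.sum_apply, Finset.sum_eq_single l]
      · rw [AddSubgroup.coe_nsmul, Pi.smul_apply, nsmul_eq_mul]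
        change _ * ax l (H.d l : ℤ) l = _
        rw [ax_self]
      · intro i _ hi
        rw [AddSubgroup.coe_nsmul, Pi.smul_apply]
        change _ • ax i (H.d i : ℤ) l = 0
        rw [ax_ne hi.symm, smul_zero]
      · intro h; exact absurd (Finset.mem_univ l) h
    refine ⟨m + p', (hQmem _).mpr fun l => ?_, p', (hQmem _).mpr fun l => ?_, by abel⟩
    · change 0 ≤ m.1 l + p'.1 l
      rw [hp']
      have h1 := H.d_pos l
      have h2 : ((m.1 l).natAbs : ℤ) * 1 ≤ (m.1 l).natAbs * (H.d l : ℤ) :=
        mul_le_mul_of_nonneg_left (by omega) (by positivity)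
      omega
    · rw [hp']; positivity
  have hassoc : ∀ m : pos H.M, Associated (H.toLoc (algebraMap B O (s m)))
      (H.τ (Multiplicative.ofAdd m)) := by
    intro m
    rw [H.toLoc_algebraMap]
    exact hs m
  have hs0 : ∀ y : Q, algebraMap B O (s (j y)) ≠ 0 := by
    intro y h0
    have h1 := hassoc (j y)
    rw [h0, map_zero] at h1
    exact nonZeroDivisors.ne_zero (tau_mem_nonZeroDivisors H (j y)) (Associated.eq_zero_iff h1 |>.mp rfl)
  have hmul : ∀ y y' : Q, Associated (algebraMap B O (s (j (y + y'))))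
      (algebraMap B O (s (j y)) * algebraMap B O (s (j y'))) := by
    intro y y'
    have h1 : Associated (H.toLoc (algebraMap B O (s (j (y + y')))))
        (H.toLoc (algebraMap B O (s (j y)) * algebraMap B O (s (j y')))) := by
      rw [map_mul]
      refine (hassoc _).trans ?_
      have h2 : j (y + y') = j y + j y' := rfl
      rw [h2, ofAdd_add, map_mul]
      exact ((hassoc _).mul_mul (hassoc _)).symm
    exact associated_of_dvd_dvd (dvd_of_dvd H h1.dvd) (dvd_of_dvd H h1.symm.dvd)
  obtain ⟨σ₀, hσ₀⟩ := exists_mul_choice Q hgen (fun y => algebraMap B O (s (j y))) hs0 hmul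
  let jinv : pos H.M →+ Q :=
    { toFun := fun m => ⟨⟨m.1, m.2.1⟩, m.2⟩
      map_zero' := rfl
      map_add' := fun _ _ => rfl }
  refine ⟨σ₀.comp (AddMonoidHom.toMultiplicative jinv), fun m => ?_⟩
  have h1 := ((hσ₀ (jinv (Multiplicative.toAdd m))).map H.toLoc).trans (hassoc (Multiplicative.toAdd m))
  exact le_antisymm (Ideal.span_singleton_le_span_singleton.mpr h1.symm.dvd)
    (Ideal.span_singleton_le_span_singleton.mpr h1.dvd)

end K937.PartI
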