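import Groth.Agent.Resolve.K937.MonCmp
import Groth.Agent.Resolve.K84.DParts
import Groth.Agent.Resolve.K73.ToricAlg

/-!
# Comparison of two flexible Kummer charts at a common point (node D3 of the S19921 project)

`main : K84.DParts.Cmp K`.
-/

set_option autoImplicit false
universe u

open CategoryTheory AlgebraicGeometry

namespace K937.CmpThm

open K84 K84.DParts K937.MonCmp

section Mult

variable {I : Type} {P : Type} [AddCommGroup P] {v : I → P →+ ℤ}

theorem mult_ne_zero [Finite I] (D : Tor.Dat v) : K73.Toric.mult v ≠ 0 := by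
  classical
  have := Fintype.ofFinite I
  have hc : ∀ i, ∃ c : ℤ, c * v i (D.q i) = ∏ j, v j (D.q j) := fun i =>
    let ⟨c, h⟩ := Finset.dvd_prod_of_mem (fun j => v j (D.q j)) (Finset.mem_univ i)
    ⟨c, by rw [h, mul_comm]⟩
  choose e he using hc
  have hN : (∏ j, v j (D.q j)) ≠ 0 := Finset.prod_ne_zero_iff.mpr fun i _ => (D.pos i).ne'
  have hmem : ∀ x : I → ℤ, (∏ j, v j (D.q j)) • x ∈ (AddMonoidHom.pi v).range := by
    intro x
    refine ⟨∑ i, (x i * e i) • D.q i, ?_⟩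
    ext j
    rw [AddMonoidHom.pi_apply, map_sum, Finset.sum_eq_single j]
    · rw [map_zsmul, Pi.smul_apply, smul_eq_mul, smul_eq_mul, ← he j]; ring
    · intro i _ hij
      rw [map_zsmul, D.ne i j hij.symm, smul_zero]
    · intro h; exact absurd (Finset.mem_univ j) h
  have htor : Module.IsTorsion ℤ ((I → ℤ) ⧸ (AddMonoidHom.pi v).range) := by
    intro y
    obtain ⟨x, rfl⟩ := QuotientAddGroup.mk_surjective y
    refine ⟨⟨_, mem_nonZeroDivisors_of_ne_zero hN⟩, ?_⟩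
    change (∏ j, v j (D.q j)) • (QuotientAddGroup.mk x : (I → ℤ) ⧸ (AddMonoidHom.pi v).range) = 0
    rw [← QuotientAddGroup.mk_zsmul, QuotientAddGroup.eq_zero_iff]
    exact hmem x
  have hfin : Module.Finite ℤ ((I → ℤ) ⧸ (AddMonoidHom.pi v).range) :=
    Module.Finite.of_surjective (QuotientAddGroup.mk' (AddMonoidHom.pi v).range).toIntLinearMap
      (QuotientAddGroup.mk'_surjective _)
  have : Finite ((I → ℤ) ⧸ (AddMonoidHom.pi v).range) := Module.finite_of_fg_torsion _ htor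
  exact AddSubgroup.index_ne_zero_of_finite

variable (K : Type u) [Field K] [Module.Finite ℤ P]

theorem isNoetherianRing_alg [Finite I] (D : Tor.Dat v) : IsNoetherianRing (Tor.Alg K v) :=
  K73.Toric.isNoetherianRing_cone K (v := v) (mult_ne_zero D)

theorem isIntegrallyClosed_alg [Module.Free ℤ P] (v : I → P →+ ℤ) : IsIntegrallyClosed (Tor.Alg K v) :=
  K73.Toric.isIntegrallyClosed_cone K v

end Mult

section Sch

variable {X : Scheme.{u}}

theorem map_germ_eq (I : X.IdealSheafData) (U V : X.affineOpens) (x : X) (hU : x ∈ U.1)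
    (hV : x ∈ V.1) : (I.ideal U).map (X.presheaf.germ U.1 x hU).hom =
      (I.ideal V).map (X.presheaf.germ V.1 x hV).hom := by
  obtain ⟨_, ⟨W : X.Opens, hW, rfl⟩, hxW, hle⟩ :=
    X.isBasis_affineOpens.exists_subset_of_mem_open (show x ∈ (U.1 ⊓ V.1 : X.Opens) from ⟨hU, hV⟩)
      (U.1 ⊓ V.1 : X.Opens).2
  have key : ∀ (T : X.affineOpens) (hT : x ∈ T.1) (h : (⟨W, hW⟩ : X.affineOpens) ≤ T),
      (I.ideal T).map (X.presheaf.germ T.1 x hT).hom =
        (I.ideal ⟨W, hW⟩).map (X.presheaf.germ W x hxW).hom := by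
    intro T hT h
    rw [← I.map_ideal h, Ideal.map_map, ← CommRingCat.hom_comp]
    exact congrArg (fun f : Γ(X, T.1) ⟶ X.presheaf.stalk x => (I.ideal T).map f.hom)
      (X.presheaf.germ_res (homOfLE h) x hxW).symm
  rw [key U hU fun y hy => (hle hy).1, key V hV fun y hy => (hle hy).2]

theorem mem_support_iff {I : X.IdealSheafData} {U : X.affineOpens} {x : X} (hx : x ∈ U.1)
    {s : Γ(X, U)} (hs : I.ideal U = Ideal.span {s}) :
    x ∈ I.support ↔ ¬ IsUnit (X.presheaf.germ U.1 x hx s) := by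
  rw [Scheme.IdealSheafData.mem_support_iff_of_mem hx, hs, Scheme.zeroLocus_span]
  rw [Scheme.mem_zeroLocus_iff]
  simp only [Set.mem_singleton_iff, forall_eq]
  rw [X.mem_basicOpen _ _ hx]

variable {K : Type u} [Field K] {p : X ⟶ Spec (CommRingCat.of K)} {ι : Type}
  {F : ι → X.IdealSheafData}

/-- the germ of a chart at a point -/
noncomputable def germψ {U : X.affineOpens} (c : FChart p F U) {x : X} (hx : x ∈ U.1) :
    Tor.Alg K c.v →+* X.presheaf.stalk x :=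
  (X.presheaf.germ U.1 x hx).hom.comp c.ψ

theorem good {U : X.affineOpens} (c : FChart p F U) {x : X} (hx : x ∈ U.1) :
    IsDomain (X.presheaf.stalk x) ∧ IsIntegrallyClosed (X.presheaf.stalk x) ∧ Good (germψ c hx) := by
  have h1 := isNoetherianRing_alg K c.dat
  have h2 := isIntegrallyClosed_alg K c.v
  let : Algebra Γ(X, U.1) (X.presheaf.stalk x) := X.presheaf.algebra_section_stalk ⟨x, hx⟩
  have hloc : IsLocalization.AtPrime (X.presheaf.stalk x) (U.2.primeIdealOf ⟨x, hx⟩).asIdeal :=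
    U.2.isLocalization_stalk ⟨x, hx⟩
  obtain ⟨hd, hic⟩ := isIntegrallyClosed_of_smooth c.ψ c.smooth (O := X.presheaf.stalk x)
    (U.2.primeIdealOf ⟨x, hx⟩).asIdeal
  exact ⟨hd, hic, good_of_smooth c.ψ c.smooth (O := X.presheaf.stalk x)
    (U.2.primeIdealOf ⟨x, hx⟩).asIdeal⟩

theorem mem_support_lab_iff {U : X.affineOpens} (c : FChart p F U) {x : X} (hx : x ∈ U.1) (i : c.I) :
    x ∈ (F (c.lab i)).support ↔ ¬ IsUnit (germψ c hx (Tor.mon K (c.dat.mem i))) :=
  mem_support_iff hx (c.ideal_lab i)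

theorem mem_range_lab {U : X.affineOpens} (c : FChart p F U) {x : X} (hx : x ∈ U.1) {l : ι}
    (h : x ∈ (F l).support) : l ∈ Set.range c.lab := by
  by_contra hcon
  have h1 : (F l).ideal U = Ideal.span {1} := by
    rw [c.ideal_notMem l hcon, Ideal.span_singleton_one]
  rw [mem_support_iff hx h1, map_one] at h
  exact h isUnit_one

theorem associated_of_lab_eq {U₁ U₂ : X.affineOpens} (c₁ : FChart p F U₁) (c₂ : FChart p F U₂) {x : X}
    [IsDomain (X.presheaf.stalk x)] (h₁ : x ∈ U₁.1) (h₂ : x ∈ U₂.1) {i₁ : c₁.I} {i₂ : c₂.I}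
    (h : c₁.lab i₁ = c₂.lab i₂) :
    Associated (germψ c₁ h₁ (Tor.mon K (c₁.dat.mem i₁))) (germψ c₂ h₂ (Tor.mon K (c₂.dat.mem i₂))) := by
  rw [← Ideal.span_singleton_eq_span_singleton]
  have h3 := map_germ_eq (F (c₁.lab i₁)) U₁ U₂ x h₁ h₂
  rw [c₁.ideal_lab i₁, h, c₂.ideal_lab i₂, Ideal.map_span, Ideal.map_span, Set.image_singleton,
    Set.image_singleton] at h3
  exact h3

end Sch

/-- **D3**: comparison of charts. -/
theorem main (K : Type u) [Field K] : Cmp K := by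
  classical
  intro X p _ ι F U₁ U₂ c₁ c₂ x h₁ h₂
  obtain ⟨hd, hic, hg₁⟩ := good c₁ h₁
  obtain ⟨-, -, hg₂⟩ := good c₂ h₂
  let J := {i : c₁.I // x ∈ (F (c₁.lab i)).support}
  have hJ : ∀ j : J, ∃ i₂, c₂.lab i₂ = c₁.lab j.1 := fun j => mem_range_lab c₂ h₂ j.2
  choose a₂ ha₂ using hJ
  have hinj₂ : Function.Injective a₂ := by
    intro j j' h
    apply Subtype.ext
    apply c₁.lab_inj
    rw [← ha₂, ← ha₂, h]
  have hu₁ : ∀ i, i ∉ Set.range (Subtype.val : J → c₁.I) →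
      IsUnit (germψ c₁ h₁ (Tor.mon K (c₁.dat.mem i))) := by
    intro i hi
    by_contra hcon
    exact hi ⟨⟨i, (mem_support_lab_iff c₁ h₁ i).mpr hcon⟩, rfl⟩
  have hu₂ : ∀ i, i ∉ Set.range a₂ → IsUnit (germψ c₂ h₂ (Tor.mon K (c₂.dat.mem i))) := by
    intro i hi
    by_contra hcon
    have h3 := (mem_support_lab_iff c₂ h₂ i).mpr hcon
    obtain ⟨i₁, hi₁⟩ := mem_range_lab c₁ h₁ h3
    refine hi ⟨⟨i₁, by rw [hi₁]; exact h3⟩, ?_⟩
    apply c₂.lab_inj
    rw [ha₂]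
    exact hi₁
  obtain ⟨hA, hB⟩ := main_of_good c₁.dat c₂.dat (Subtype.val : J → c₁.I) a₂ Subtype.val_injective hinj₂
    hg₁ hg₂ (fun j => associated_of_lab_eq c₁ c₂ h₁ h₂ (ha₂ j).symm)
    (fun j => (mem_support_lab_iff c₂ h₂ (a₂ j)).mp (by rw [ha₂]; exact j.2)) hu₁ hu₂
  have hidx : ∀ i₁ i₂ (h : c₁.lab i₁ = c₂.lab i₂) (hx : x ∈ (F (c₁.lab i₁)).support),
      a₂ ⟨i₁, hx⟩ = i₂ := by
    intro i₁ i₂ h hx
    apply c₂.lab_inj
    rw [ha₂]
    exact h
  refine ⟨fun m₁ => ?_, fun i₁ i₂ h hx => ?_⟩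
  · obtain ⟨m₂, hm₂⟩ := hA m₁
    refine ⟨m₂, fun i₁ i₂ h hx => ?_⟩
    have := hm₂ ⟨i₁, hx⟩
    rw [hidx i₁ i₂ h hx] at this
    exact this
  · have := hB ⟨i₁, hx⟩
    rw [hidx i₁ i₂ h hx] at this
    exact this

end K937.CmpThm
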