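import Groth.Agent.Resolve.K84.Tor
import Groth.Agent.Resolve.K937.LemmaV
import Groth.Agent.Dix.NormalLoc
import Mathlib.Algebra.AffineMonoid.UniqueSums
import Mathlib.Algebra.MonoidAlgebra.NoZeroDivisors
import Mathlib.RingTheory.Smooth.Flat

/-!
# Comparison of toric charts (node MonCmp of the S19921 project)

Two Kummer charts `ψ₁ : K[cone v₁] → O`, `ψ₂ : K[cone v₂] → O` into a local domain, each a localization of a
smooth homomorphism, with `ψ₁ (x ^ q₁ i)` and `ψ₂ (x ^ q₂ i)` generating the same proper ideal for every `i`,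
have the same lattice and the same multiplicities: `main`.
-/

set_option autoImplicit false
universe u

namespace K937.MonCmp

open K84.Tor

section Min

variable {K : Type u} [Field K] {Q : Type} [AddMonoid Q]

/-- `n` is the minimum of `w` on the support of `f`. -/
def IsMin (w : Q →+ ℤ) (f : AddMonoidAlgebra K Q) (n : ℤ) : Prop :=
  (∃ p ∈ f.coeff.support, w p = n) ∧ ∀ p ∈ f.coeff.support, n ≤ w p

theorem IsMin.unique {w : Q →+ ℤ} {f : AddMonoidAlgebra K Q} {m n : ℤ} (hm : IsMin w f m)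
    (hn : IsMin w f n) : m = n := by
  obtain ⟨p, hp, hpm⟩ := hm.1
  obtain ⟨q, hq, hqn⟩ := hn.1
  exact le_antisymm (hqn ▸ hm.2 q hq) (hpm ▸ hn.2 p hp)

theorem exists_isMin (w : Q →+ ℤ) {f : AddMonoidAlgebra K Q} (hf : f ≠ 0) : ∃ n, IsMin w f n := by
  have hne : f.coeff.support.Nonempty :=
    Finsupp.support_nonempty_iff.mpr (fun h => hf (AddMonoidAlgebra.coeff_eq_zero.mp h))
  obtain ⟨p, hp, hmin⟩ := f.coeff.support.exists_min_image w hne
  exact ⟨w p, ⟨p, hp, rfl⟩, hmin⟩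

theorem IsMin.mul [UniqueSums Q] {w : Q →+ ℤ} {f g : AddMonoidAlgebra K Q} {m n : ℤ}
    (hf : IsMin w f m) (hg : IsMin w g n) : IsMin w (f * g) (m + n) := by
  classical
  let A := f.coeff.support.filter fun p => w p = m
  let B := g.coeff.support.filter fun p => w p = n
  have hA : A.Nonempty := by
    obtain ⟨p, hp, hpm⟩ := hf.1
    exact ⟨p, Finset.mem_filter.mpr ⟨hp, hpm⟩⟩
  have hB : B.Nonempty := by
    obtain ⟨p, hp, hpm⟩ := hg.1
    exact ⟨p, Finset.mem_filter.mpr ⟨hp, hpm⟩⟩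
  obtain ⟨a, ha, b, hb, hu⟩ := UniqueSums.uniqueAdd_of_nonempty hA hB
  obtain ⟨ha1, ha2⟩ := Finset.mem_filter.mp ha
  obtain ⟨hb1, hb2⟩ := Finset.mem_filter.mp hb
  have hu' : UniqueAdd f.coeff.support g.coeff.support a b := by
    intro p q hp hq hpq
    have h1 : w p + w q = m + n := by rw [← map_add, hpq, map_add, ha2, hb2]
    have h2 := hf.2 p hp
    have h3 := hg.2 q hq
    refine hu (Finset.mem_filter.mpr ⟨hp, by omega⟩) (Finset.mem_filter.mpr ⟨hq, by omega⟩) hpq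
  refine ⟨⟨a + b, ?_, by rw [map_add, ha2, hb2]⟩, ?_⟩
  · rw [Finsupp.mem_support_iff, AddMonoidAlgebra.coeff_mul_add_of_uniqueAdd hu']
    exact mul_ne_zero (Finsupp.mem_support_iff.mp ha1) (Finsupp.mem_support_iff.mp hb1)
  · intro p hp
    obtain ⟨q, hq, r, hr, rfl⟩ := Finset.mem_add.mp (AddMonoidAlgebra.support_coeff_mul_subset f g hp)
    rw [map_add]
    exact add_le_add (hf.2 q hq) (hg.2 r hr)

theorem isMin_single (w : Q →+ ℤ) (p : Q) {c : K} (hc : c ≠ 0) :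
    IsMin w (AddMonoidAlgebra.single p c) (w p) := by
  have h : (AddMonoidAlgebra.single p c : AddMonoidAlgebra K Q).coeff.support = {p} := by
    rw [AddMonoidAlgebra.coeff_single, Finsupp.support_single p hc]
  refine ⟨⟨p, by rw [h]; exact Finset.mem_singleton_self p, rfl⟩, fun q hq => ?_⟩
  rw [h, Finset.mem_singleton] at hq
  rw [hq]

theorem IsMin.pow [UniqueSums Q] {w : Q →+ ℤ} {f : AddMonoidAlgebra K Q} {m : ℤ}
    (hf : IsMin w f m) (N : ℕ) : IsMin w (f ^ N) (N * m) := by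
  induction N with
  | zero =>
    rw [pow_zero]
    have := isMin_single (K := K) w 0 one_ne_zero
    rw [map_zero] at this
    rw [Nat.cast_zero, zero_mul]
    exact this
  | succ N ih =>
    rw [pow_succ]
    have := ih.mul hf
    have h : (N : ℤ) * m + m = ((N + 1 : ℕ) : ℤ) * m := by push_cast; ring
    rwa [h] at this

end Min

section Cone

variable {K : Type u} [Field K] {P : Type} [AddCommGroup P] {I : Type} {v : I → P →+ ℤ}

theorem uniqueSums_group (P : Type) [AddCommGroup P] [Module.Free ℤ P] : UniqueSums P :=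
  UniqueSums.of_injective_addHom
    ((Module.Free.chooseBasis ℤ P).repr.toAddEquiv.toAddMonoidHom.toAddHom)
    (Module.Free.chooseBasis ℤ P).repr.injective inferInstance

theorem uniqueSums_cone [Module.Free ℤ P] (v : I → P →+ ℤ) : UniqueSums (cone v) :=
  UniqueSums.of_injective_addHom ((cone v).subtype.toAddHom) Subtype.val_injective
    (uniqueSums_group P)

/-- The ideal `{f | x ^ b ∣ f ^ N}` is generated by monomials. -/
theorem mem_span_mon [Module.Free ℤ P] {b : P} (hb : b ∈ cone v) {N : ℕ} {f : Alg K v}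
    (hf : mon K hb ∣ f ^ N) :
    f ∈ Ideal.span {g : Alg K v | ∃ (p : P) (hp : p ∈ cone v), (∀ i, v i b ≤ N * v i p) ∧ g = mon K hp} := by
  classical
  have := uniqueSums_cone v
  by_cases hf0 : f = 0
  · rw [hf0]; exact zero_mem _
  obtain ⟨h, hh⟩ := hf
  have hh0 : h ≠ 0 := by
    rintro rfl
    rw [mul_zero] at hh
    exact hf0 (IsReduced.eq_zero f ⟨N, hh⟩)
  have key : ∀ p ∈ f.coeff.support, ∀ i, v i b ≤ N * v i p := by
    intro p hp i
    let w : cone v →+ ℤ := (v i).comp (cone v).subtype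
    obtain ⟨m, hm⟩ := exists_isMin w hf0
    obtain ⟨n, hn⟩ := exists_isMin w hh0
    have h1 := hm.pow N
    have h2 := (isMin_single (K := K) w ⟨b, hb⟩ one_ne_zero).mul hn
    rw [hh] at h1
    have h3 : (N : ℤ) * m = v i b + n := h1.unique h2
    have h4 : 0 ≤ n := by
      obtain ⟨q, -, hq⟩ := hn.1
      rw [← hq]
      exact q.2 i
    have h5 : m ≤ v i p := hm.2 p hp
    have h6 : (N : ℤ) * m ≤ N * v i p := mul_le_mul_of_nonneg_left h5 (Nat.cast_nonneg N)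
    omega
  have hsum : f = ∑ p ∈ f.coeff.support, AddMonoidAlgebra.single p (f.coeff p) := by
    apply AddMonoidAlgebra.coeff_injective
    rw [AddMonoidAlgebra.coeff_sum]
    simp only [AddMonoidAlgebra.coeff_single]
    exact (Finsupp.sum_single f.coeff).symm
  rw [hsum]
  refine Ideal.sum_mem _ fun p hp => ?_
  have h1 : (AddMonoidAlgebra.single p (f.coeff p) : Alg K v) =
      AddMonoidAlgebra.single 0 (f.coeff p) * mon K p.2 := by
    rw [mon, AddMonoidAlgebra.single_mul_single, zero_add, mul_one]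
  rw [h1]
  exact Ideal.mul_mem_left _ _ (Ideal.subset_span ⟨p, p.2, key p hp, rfl⟩)

theorem mon_pow {p : P} (hp : p ∈ cone v) (n : ℕ) :
    mon K hp ^ n = mon K ((cone v).nsmul_mem hp n) := by
  simp only [mon, AddMonoidAlgebra.single_pow, one_pow]
  rfl

theorem mon_congr {p q : P} (hp : p ∈ cone v) (hq : q ∈ cone v) (h : p = q) : mon K hp = mon K hq := by
  subst h; rfl

theorem mon_zero (h : (0 : P) ∈ cone v) : mon K h = 1 := rfl

theorem isUnit_mon {p : P} (hp : p ∈ cone v) (hp' : -p ∈ cone v) : IsUnit (mon K hp) := by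
  refine IsUnit.of_mul_eq_one (mon K hp') ?_
  rw [mon_mul, mon_congr _ (cone v).zero_mem (add_neg_cancel p)]
  rfl

theorem mon_sum {ι : Type} (s : Finset ι) (p : ι → P) (hp : ∀ i, p i ∈ cone v) :
    mon K ((cone v).sum_mem fun i (_ : i ∈ s) => hp i) = ∏ i ∈ s, mon K (hp i) := by
  classical
  induction s using Finset.induction_on with
  | empty => rfl
  | insert a s ha ih =>
    rw [Finset.prod_insert ha, ← ih, mon_mul]
    exact mon_congr _ _ (Finset.sum_insert ha)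

end Cone

section Comb

variable {P : Type} [AddCommGroup P] {I : Type} [Fintype I] {v : I → P →+ ℤ} (D : Dat v)

/-- `∑ nᵢ qᵢ` -/
def comb (n : I → ℕ) : P := ∑ i, n i • D.q i

theorem v_comb (n : I → ℕ) (j : I) : v j (comb D n) = n j * v j (D.q j) := by
  classical
  rw [comb, map_sum, Finset.sum_eq_single j]
  · rw [map_nsmul, nsmul_eq_mul]
  · intro i _ hij
    rw [map_nsmul, D.ne i j hij.symm, smul_zero]
  · intro h; exact absurd (Finset.mem_univ j) h

theorem comb_mem (n : I → ℕ) : comb D n ∈ cone v := fun j => by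
  rw [v_comb]
  exact mul_nonneg (Nat.cast_nonneg _) (D.pos j).le

theorem exists_add_mem (p : P) : ∃ n : I → ℕ, p + comb D n ∈ cone v ∧ ∀ i, 0 ≤ v i p → n i = 0 := by
  refine ⟨fun i => (-(v i p)).toNat, fun j => ?_, fun i hi => ?_⟩
  · rw [map_add, v_comb]
    have h1 : -(v j p) ≤ ((-(v j p)).toNat : ℤ) := Int.self_le_toNat _
    have h2 : ((-(v j p)).toNat : ℤ) * 1 ≤ ((-(v j p)).toNat : ℤ) * v j (D.q j) :=
      mul_le_mul_of_nonneg_left (D.pos j) (Nat.cast_nonneg _)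
    omega
  · exact Int.toNat_eq_zero.mpr (by omega)

theorem mon_comb (K : Type u) [Field K] (n : I → ℕ) :
    mon K (comb_mem D n) = ∏ i, mon K (D.mem i) ^ n i := by
  have h := mon_sum (K := K) (v := v) Finset.univ (fun i => n i • D.q i)
    (fun i => (cone v).nsmul_mem (D.mem i) (n i))
  refine Eq.trans ?_ (h.trans ?_)
  · exact mon_congr _ _ rfl
  · exact Finset.prod_congr rfl fun i _ => (mon_pow (D.mem i) (n i)).symm

end Comb

section Key

variable {K : Type u} [Field K] {I : Type} {P : Type} [AddCommGroup P]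
  {v : I → P →+ ℤ} (D : Dat v) {O : Type u} [CommRing O] {ψ : Alg K v →+* O}

theorem eq_zero_of_isUnit {i : I} (hne : ¬ IsUnit (ψ (mon K (D.mem i)))) {s : P}
    (hs : s ∈ cone v) (hu : IsUnit (ψ (mon K hs))) : v i s = 0 := by
  by_contra h0
  have hpos : 0 < v i s := lt_of_le_of_ne (hs i) (Ne.symm h0)
  let n : ℕ := (v i (D.q i)).toNat
  have hn : (n : ℤ) = v i (D.q i) := Int.toNat_of_nonneg (D.pos i).le
  have hmem : n • s - D.q i ∈ cone v := by
    intro j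
    rw [map_sub, map_nsmul, nsmul_eq_mul]
    by_cases hj : j = i
    · subst hj
      rw [← hn]
      have : (n : ℤ) * 1 ≤ n * v j s := mul_le_mul_of_nonneg_left hpos (Nat.cast_nonneg _)
      omega
    · rw [D.ne i j hj, sub_zero]
      exact mul_nonneg (Nat.cast_nonneg _) (hs j)
  have h1 : mon K hs ^ n = mon K (D.mem i) * mon K hmem := by
    rw [mon_pow, mon_mul]
    exact mon_congr _ _ (by abel)
  have h2 : IsUnit (ψ (mon K (D.mem i)) * ψ (mon K hmem)) := by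
    rw [← map_mul, ← h1, map_pow]
    exact hu.pow n
  exact hne (isUnit_of_mul_isUnit_left h2)

/-- What is needed from a chart. -/
structure Good {P : Type} [AddCommGroup P] {v : I → P →+ ℤ} (ψ : Alg K v →+* O) : Prop where
  ne : ∀ {p : P} (hp : p ∈ cone v), ψ (mon K hp) ≠ 0
  lemV : ∀ {b : P} (hb : b ∈ cone v) (N : ℕ), N ≠ 0 → ∀ f : O, ψ (mon K hb) ∣ f ^ N →
      f ∈ (Ideal.span {g : Alg K v | ∃ (p : P) (hp : p ∈ cone v),
        (∀ i, v i b ≤ N * v i p) ∧ g = mon K hp}).map ψ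

end Key

section Cmp

variable {K : Type u} [Field K] {J I₁ I₂ : Type} [Fintype J] [Fintype I₁] [Fintype I₂]
  {P₁ P₂ : Type} [AddCommGroup P₁] [AddCommGroup P₂]
  {v₁ : I₁ → P₁ →+ ℤ} {v₂ : I₂ → P₂ →+ ℤ} (D₁ : Dat v₁) (D₂ : Dat v₂)
  (a₁ : J → I₁) (a₂ : J → I₂) (ha₁ : Function.Injective a₁) (ha₂ : Function.Injective a₂)
  {O : Type u} [CommRing O] [IsDomain O] [IsLocalRing O] [IsIntegrallyClosed O]
  {ψ₁ : Alg K v₁ →+* O} {ψ₂ : Alg K v₂ →+* O}

open Classical in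
/-- transport of exponents supported on the common labels -/
noncomputable def tr (n : I₁ → ℕ) : I₂ → ℕ := Function.extend a₂ (fun j => n (a₁ j)) 0

omit [Fintype J] [Fintype I₁] [Fintype I₂] in
include ha₂ in
theorem tr_apply (n : I₁ → ℕ) (j : J) : tr a₁ a₂ n (a₂ j) = n (a₁ j) :=
  ha₂.extend_apply _ _ j

omit [IsDomain O] [IsLocalRing O] [IsIntegrallyClosed O] in
include ha₁ ha₂ in
theorem assoc_comb (hass : ∀ j, Associated (ψ₁ (mon K (D₁.mem (a₁ j)))) (ψ₂ (mon K (D₂.mem (a₂ j)))))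
    (hu₁ : ∀ i, i ∉ Set.range a₁ → IsUnit (ψ₁ (mon K (D₁.mem i)))) (n : I₁ → ℕ) :
    Associated (ψ₁ (mon K (comb_mem D₁ n))) (ψ₂ (mon K (comb_mem D₂ (tr a₁ a₂ n)))) := by
  classical
  rw [mon_comb, mon_comb, map_prod, map_prod]
  have h2 : ∏ i, ψ₂ (mon K (D₂.mem i) ^ tr a₁ a₂ n i) =
      ∏ j : J, ψ₂ (mon K (D₂.mem (a₂ j)) ^ n (a₁ j)) := by
    refine (Fintype.prod_of_injective a₂ ha₂ _ _ (fun i hi => ?_) fun j => ?_).symm
    · rw [tr, Function.extend_apply' _ _ _ (fun ⟨j, hj⟩ => hi ⟨j, hj⟩), Pi.zero_apply, pow_zero, map_one]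
    · rw [tr_apply a₁ a₂ ha₂]
  have h1 : Associated (∏ i, ψ₁ (mon K (D₁.mem i) ^ n i))
      (∏ i, if i ∈ Set.range a₁ then ψ₁ (mon K (D₁.mem i) ^ n i) else 1) := by
    refine Associated.prod Finset.univ _ _ fun i _ => ?_
    split_ifs with hi
    · exact Associated.refl _
    · rw [map_pow]
      exact associated_one_iff_isUnit.mpr ((hu₁ i hi).pow _)
  have h3 : (∏ i, if i ∈ Set.range a₁ then ψ₁ (mon K (D₁.mem i) ^ n i) else 1) =
      ∏ j : J, ψ₁ (mon K (D₁.mem (a₁ j)) ^ n (a₁ j)) := by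
    refine (Fintype.prod_of_injective a₁ ha₁ _ _ (fun i hi => if_neg hi) fun j => ?_).symm
    rw [if_pos ⟨j, rfl⟩]
  rw [h2]
  rw [h3] at h1
  refine h1.trans (Associated.prod Finset.univ _ _ fun j _ => ?_)
  rw [map_pow, map_pow]
  exact (hass j).pow_pow

include ha₁ ha₂ in
theorem key (h₁ : Good ψ₁) (h₂ : Good ψ₂)
    (hass : ∀ j, Associated (ψ₁ (mon K (D₁.mem (a₁ j)))) (ψ₂ (mon K (D₂.mem (a₂ j)))))
    (hne : ∀ j, ¬ IsUnit (ψ₂ (mon K (D₂.mem (a₂ j)))))
    (hu₁ : ∀ i, i ∉ Set.range a₁ → IsUnit (ψ₁ (mon K (D₁.mem i))))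
    {m : P₁} (hm : m ∈ cone v₁) :
    ∃ p ∈ cone v₂, ∀ j, v₂ (a₂ j) p * v₁ (a₁ j) (D₁.q (a₁ j)) =
      v₁ (a₁ j) m * v₂ (a₂ j) (D₂.q (a₂ j)) := by
  classical
  let c : I₁ → ℕ := fun i => (v₁ i (D₁.q i)).toNat
  have hc : ∀ i, (c i : ℤ) = v₁ i (D₁.q i) := fun i => Int.toNat_of_nonneg (D₁.pos i).le
  have hc0 : ∀ i, c i ≠ 0 := fun i h => by
    have h1 := hc i
    rw [h] at h1
    exact (D₁.pos i).ne h1
  let a : I₁ → ℕ := fun i => (v₁ i m).toNat
  have ha : ∀ i, (a i : ℤ) = v₁ i m := fun i => Int.toNat_of_nonneg (hm i)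
  let N : ℕ := ∏ i, c i
  have hN : N ≠ 0 := Finset.prod_ne_zero_iff.mpr fun i _ => hc0 i
  let e : I₁ → ℕ := fun i => N / c i
  have he : ∀ i, e i * c i = N := fun i =>
    Nat.div_mul_cancel (Finset.dvd_prod_of_mem c (Finset.mem_univ i))
  have he0 : ∀ i, e i ≠ 0 := fun i h => hN (by rw [← he i, h, zero_mul])
  let n : I₁ → ℕ := fun i => a i * e i
  have hn : ∀ i, (n i : ℤ) = v₁ i m * e i := fun i => by
    rw [← ha]; exact Nat.cast_mul _ _
  have he' : ∀ i, (N : ℤ) = e i * v₁ i (D₁.q i) := fun i => by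
    rw [← hc, ← he i]; push_cast; rfl
  let n' : I₂ → ℕ := tr a₁ a₂ n
  have hn' : ∀ j, n' (a₂ j) = n (a₁ j) := tr_apply a₁ a₂ ha₂ n
  -- the unit part
  have hu0 : ∀ i, v₁ i (N • m - comb D₁ n) = 0 := fun i => by
    rw [map_sub, map_nsmul, nsmul_eq_mul, v_comb, hn, he' i]; ring
  have hu : N • m - comb D₁ n ∈ cone v₁ := fun i => (hu0 i).ge
  have hu' : -(N • m - comb D₁ n) ∈ cone v₁ := fun i => by rw [map_neg, hu0, neg_zero]
  have hg : Associated (ψ₁ (mon K hm) ^ N) (ψ₂ (mon K (comb_mem D₂ n'))) := by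
    have h1 : mon K hm ^ N = mon K hu * mon K (comb_mem D₁ n) := by
      rw [mon_pow, mon_mul]
      exact mon_congr _ _ (by abel)
    rw [← map_pow, h1, map_mul]
    exact (associated_unit_mul_left _ _ ((isUnit_mon hu hu').map ψ₁)).trans
      (assoc_comb D₁ D₂ a₁ a₂ ha₁ ha₂ hass hu₁ n)
  have hgmem := h₂.lemV (comb_mem D₂ n') N hN _ hg.symm.dvd
  have hdiv : ∀ (p : P₂) (hp : p ∈ cone v₂), (∀ i, v₂ i (comb D₂ n') ≤ N * v₂ i p) →
      ∃ hs : N • p - comb D₂ n' ∈ cone v₂,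
        ψ₂ (mon K hp) ^ N = ψ₂ (mon K hs) * ψ₂ (mon K (comb_mem D₂ n')) := by
    intro p hp hpb
    have hs : N • p - comb D₂ n' ∈ cone v₂ := fun i => by
      rw [map_sub, map_nsmul, nsmul_eq_mul]
      exact sub_nonneg.mpr (hpb i)
    refine ⟨hs, ?_⟩
    rw [← map_pow, mon_pow, ← map_mul, mon_mul]
    exact congrArg ψ₂ (mon_congr _ _ (by abel))
  have hdiv' : ∀ (p : P₂) (hp : p ∈ cone v₂), (∀ i, v₂ i (comb D₂ n') ≤ N * v₂ i p) →
      ψ₁ (mon K hm) ∣ ψ₂ (mon K hp) := by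
    intro p hp hpb
    obtain ⟨hs, h1⟩ := hdiv p hp hpb
    rw [← IsIntegrallyClosed.pow_dvd_pow_iff hN, h1]
    exact hg.dvd.mul_left _
  have hex : ∃ (p : P₂) (hp : p ∈ cone v₂), (∀ i, v₂ i (comb D₂ n') ≤ N * v₂ i p) ∧
      Associated (ψ₁ (mon K hm)) (ψ₂ (mon K hp)) := by
    by_contra hcon
    push Not at hcon
    have hle : (Ideal.span {g : Alg K v₂ | ∃ (p : P₂) (hp : p ∈ cone v₂),
        (∀ i, v₂ i (comb D₂ n') ≤ N * v₂ i p) ∧ g = mon K hp}).map ψ₂ ≤
        IsLocalRing.maximalIdeal O * Ideal.span {ψ₁ (mon K hm)} := by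
      rw [Ideal.map_span, Ideal.span_le]
      rintro _ ⟨_, ⟨p, hp, hpb, rfl⟩, rfl⟩
      obtain ⟨d, hd⟩ := hdiv' p hp hpb
      rw [SetLike.mem_coe, Ideal.mem_mul_span_singleton]
      refine ⟨d, ?_, by rw [hd, mul_comm]⟩
      rw [IsLocalRing.mem_maximalIdeal, mem_nonunits_iff]
      intro hdu
      refine hcon p hp hpb ?_
      rw [hd]
      exact (associated_mul_unit_right _ _ hdu)
    obtain ⟨z, hz, hzg⟩ := Ideal.mem_mul_span_singleton.mp (hle hgmem)
    have h1 : (1 - z) * ψ₁ (mon K hm) = 0 := by rw [sub_mul, one_mul, hzg, sub_self]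
    rcases mul_eq_zero.mp h1 with h2 | h2
    · have : z = 1 := (sub_eq_zero.mp h2).symm
      rw [this, IsLocalRing.mem_maximalIdeal, mem_nonunits_iff] at hz
      exact hz isUnit_one
    · exact h₁.ne hm h2
  obtain ⟨p, hp, hpb, hgp⟩ := hex
  obtain ⟨hs, h1⟩ := hdiv p hp hpb
  have hsu : IsUnit (ψ₂ (mon K hs)) := by
    have h2 : Associated (ψ₂ (mon K hs) * ψ₂ (mon K (comb_mem D₂ n'))) (ψ₂ (mon K (comb_mem D₂ n'))) := by
      rw [← h1]
      exact (hgp.pow_pow (n := N)).symm.trans hg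
    obtain ⟨w, hw⟩ := h2
    have h3 : (ψ₂ (mon K hs) * w - 1) * ψ₂ (mon K (comb_mem D₂ n')) = 0 := by
      linear_combination hw
    rcases mul_eq_zero.mp h3 with h4 | h4
    · exact IsUnit.of_mul_eq_one _ (sub_eq_zero.mp h4)
    · exact absurd h4 (h₂.ne _)
  refine ⟨p, hp, fun j => ?_⟩
  have h2 := eq_zero_of_isUnit D₂ (hne j) hs hsu
  rw [map_sub, map_nsmul, nsmul_eq_mul, v_comb, hn', hn, he' (a₁ j), sub_eq_zero] at h2
  have h3 : (e (a₁ j) : ℤ) ≠ 0 := by exact_mod_cast he0 (a₁ j)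
  apply mul_left_cancel₀ h3
  linear_combination h2

include ha₁ ha₂ in
theorem dvd_of_good (h₁ : Good ψ₁) (h₂ : Good ψ₂)
    (hass : ∀ j, Associated (ψ₁ (mon K (D₁.mem (a₁ j)))) (ψ₂ (mon K (D₂.mem (a₂ j)))))
    (hne : ∀ j, ¬ IsUnit (ψ₂ (mon K (D₂.mem (a₂ j)))))
    (hu₁ : ∀ i, i ∉ Set.range a₁ → IsUnit (ψ₁ (mon K (D₁.mem i)))) (j : J) :
    v₁ (a₁ j) (D₁.q (a₁ j)) ∣ v₂ (a₂ j) (D₂.q (a₂ j)) := by
  obtain ⟨p, hp⟩ := D₁.onto (a₁ j) 1
  obtain ⟨n, hn, hn'⟩ := exists_add_mem D₁ p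
  have h0 : n (a₁ j) = 0 := hn' (a₁ j) (by rw [hp]; exact zero_le_one)
  obtain ⟨p₂, -, hp₂⟩ := key D₁ D₂ a₁ a₂ ha₁ ha₂ h₁ h₂ hass hne hu₁ hn
  have h1 := hp₂ j
  rw [map_add, v_comb, hp, h0, Nat.cast_zero, zero_mul, add_zero, one_mul] at h1
  exact ⟨v₂ (a₂ j) p₂, by rw [← h1, mul_comm]⟩

include ha₁ ha₂ in
/-- **Comparison of charts**, abstract form. -/
theorem main_of_good (h₁ : Good ψ₁) (h₂ : Good ψ₂)
    (hass : ∀ j, Associated (ψ₁ (mon K (D₁.mem (a₁ j)))) (ψ₂ (mon K (D₂.mem (a₂ j)))))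
    (hne : ∀ j, ¬ IsUnit (ψ₂ (mon K (D₂.mem (a₂ j)))))
    (hu₁ : ∀ i, i ∉ Set.range a₁ → IsUnit (ψ₁ (mon K (D₁.mem i))))
    (hu₂ : ∀ i, i ∉ Set.range a₂ → IsUnit (ψ₂ (mon K (D₂.mem i)))) :
    (∀ p₁ : P₁, ∃ p₂ : P₂, ∀ j, v₁ (a₁ j) p₁ = v₂ (a₂ j) p₂) ∧
      ∀ j, v₁ (a₁ j) (D₁.q (a₁ j)) = v₂ (a₂ j) (D₂.q (a₂ j)) := by
  have hne' : ∀ j, ¬ IsUnit (ψ₁ (mon K (D₁.mem (a₁ j)))) := fun j h =>
    hne j ((hass j).isUnit h)
  have hq : ∀ j, v₁ (a₁ j) (D₁.q (a₁ j)) = v₂ (a₂ j) (D₂.q (a₂ j)) := fun j =>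
    Int.dvd_antisymm (D₁.pos _).le (D₂.pos _).le
      (dvd_of_good D₁ D₂ a₁ a₂ ha₁ ha₂ h₁ h₂ hass hne hu₁ j)
      (dvd_of_good D₂ D₁ a₂ a₁ ha₂ ha₁ h₂ h₁ (fun j => (hass j).symm) hne' hu₂ j)
  refine ⟨fun p₁ => ?_, hq⟩
  obtain ⟨n, hn, -⟩ := exists_add_mem D₁ p₁
  obtain ⟨p₂, -, hp₂⟩ := key D₁ D₂ a₁ a₂ ha₁ ha₂ h₁ h₂ hass hne hu₁ hn
  refine ⟨p₂ - comb D₂ (tr a₁ a₂ n), fun j => ?_⟩
  have h1 := hp₂ j
  rw [← hq j] at h1
  have h2 := mul_right_cancel₀ (D₁.pos _).ne' h1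
  rw [map_add, v_comb] at h2
  rw [map_sub, v_comb, h2, ← hq j, tr_apply a₁ a₂ ha₂]
  ring

end Cmp

section Smooth

variable {K : Type u} [Field K] {I : Type} {P : Type} [AddCommGroup P] [Module.Free ℤ P]
  {v : I → P →+ ℤ}

theorem isDomain_alg (v : I → P →+ ℤ) : IsDomain (Alg K v) := by
  have := uniqueSums_cone v
  infer_instance

/-- A localization at a prime of a smooth algebra over `K[cone v]` is a good chart. -/
theorem good_of_smooth [IsNoetherianRing (Alg K v)] [IsIntegrallyClosed (Alg K v)]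
    {A : Type u} [CommRing A] (α : Alg K v →+* A) (hα : α.Smooth) {O : Type u} [CommRing O]
    [IsDomain O] [Algebra A O] (𝔭 : Ideal A) [𝔭.IsPrime] [IsLocalization.AtPrime O 𝔭] :
    Good ((algebraMap A O).comp α) := by
  have := isDomain_alg (K := K) v
  algebraize [α, (algebraMap A O).comp α]
  have : Algebra.Smooth (Alg K v) A := hα
  have : IsScalarTower (Alg K v) A O := IsScalarTower.of_algebraMap_eq' rfl
  have hfl : Module.Flat (Alg K v) O := by
    have : Module.Flat A O := IsLocalization.flat O 𝔭.primeCompl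
    exact Module.Flat.trans (Alg K v) A O
  have h0 : ∀ {p : P} (hp : p ∈ cone v), (mon K hp) ≠ 0 := by
    intro p hp h
    have := congrArg (fun f : Alg K v => f.coeff ⟨p, hp⟩) h
    simp [mon] at this
  refine ⟨fun {p} hp h => ?_, fun {b} hb N hN f hf => ?_⟩
  · have h1 : IsSMulRegular (Alg K v) (mon K hp) := by
      rw [isSMulRegular_iff_right_eq_zero_of_smul]
      intro y hy
      exact (mul_eq_zero.mp hy).resolve_left (h0 hp)
    have h2 : IsSMulRegular O (algebraMap (Alg K v) O (mon K hp)) := h1.of_flat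
    have h3 : algebraMap (Alg K v) O (mon K hp) = 0 := h
    rw [h3] at h2
    have h4 := h2 (show (0 : O) • (1 : O) = (0 : O) • (0 : O) by simp)
    exact one_ne_zero h4
  · have h1 : f ∈ (K937.LemmaV.root (mon K hb) N hN).map (algebraMap (Alg K v) O) :=
      K937.LemmaV.mem_map_root_of_isReduced_quot (h0 hb) hN hf fun Q _ _ _ =>
        K937.LemmaV.isReduced_quot_of_isLocalization (C := A) 𝔭.primeCompl Q
          (K937.LemmaV.isReduced_quot_of_smooth Q)
    refine Ideal.map_mono ?_ h1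
    intro g hg
    exact mem_span_mon hb hg

/-- The local ring of a chart is integrally closed. -/
theorem isIntegrallyClosed_of_smooth [IsIntegrallyClosed (Alg K v)]
    {A : Type u} [CommRing A] (α : Alg K v →+* A) (hα : α.Smooth) {O : Type u} [CommRing O]
    [Algebra A O] (𝔭 : Ideal A) [𝔭.IsPrime] [IsLocalization.AtPrime O 𝔭] :
    IsDomain O ∧ IsIntegrallyClosed O := by
  have := isDomain_alg (K := K) v
  algebraize [α]
  have : Algebra.Smooth (Alg K v) A := hα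
  obtain ⟨h1, h2⟩ := Groth.Agent.Dix.NormalLoc.isNormalRing_of_smooth (Alg K v) A 𝔭
  let e : Localization.AtPrime 𝔭 ≃ₐ[A] O := Localization.algEquiv 𝔭.primeCompl O
  have hd : IsDomain O := e.symm.toRingEquiv.toMulEquiv.isDomain _
  exact ⟨hd, IsIntegrallyClosed.of_equiv e.toRingEquiv⟩

/-- **Comparison of charts** (MonCmp). -/
theorem main [Fintype I] {P' : Type} [AddCommGroup P'] [Module.Free ℤ P'] {v' : I → P' →+ ℤ}
    [IsNoetherianRing (Alg K v)] [IsIntegrallyClosed (Alg K v)]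
    [IsNoetherianRing (Alg K v')] [IsIntegrallyClosed (Alg K v')]
    (D : Dat v) (D' : Dat v')
    {O : Type u} [CommRing O] [IsLocalRing O]
    {A : Type u} [CommRing A] (α : Alg K v →+* A) (hα : α.Smooth) [Algebra A O]
    (𝔭 : Ideal A) [𝔭.IsPrime] [IsLocalization.AtPrime O 𝔭]
    {A' : Type u} [CommRing A'] (α' : Alg K v' →+* A') (hα' : α'.Smooth) [Algebra A' O]
    (𝔭' : Ideal A') [𝔭'.IsPrime] [IsLocalization.AtPrime O 𝔭']
    (heq : ∀ i, Ideal.span {algebraMap A O (α (mon K (D.mem i)))} =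
      Ideal.span {algebraMap A' O (α' (mon K (D'.mem i)))})
    (hne : ∀ i, Ideal.span {algebraMap A O (α (mon K (D.mem i)))} ≠ ⊤) :
    (∀ p : P, ∃ p' : P', ∀ i, v i p = v' i p') ∧ ∀ i, v i (D.q i) = v' i (D'.q i) := by
  obtain ⟨hd, hic⟩ := isIntegrallyClosed_of_smooth α hα (O := O) 𝔭
  refine main_of_good D D' id id Function.injective_id Function.injective_id
    (good_of_smooth α hα (O := O) 𝔭) (good_of_smooth α' hα' (O := O) 𝔭')
    (fun i => ?_) (fun i h => ?_) (fun i hi => absurd ⟨i, rfl⟩ hi) fun i hi => absurd ⟨i, rfl⟩ hi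
  · exact Ideal.span_singleton_eq_span_singleton.mp (heq i)
  · apply hne i
    rw [heq i]
    exact Ideal.span_singleton_eq_top.mpr h

end Smooth

end K937.MonCmp
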