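import Groth.Agent.Resolve.K84.DParts
import Groth.Agent.Resolve.K588.Bir
import Groth.Agent.Divis.BlowChart2
import Groth.Agent.Biell.K857.OReg
import Groth.Agent.Dix.NormalLoc

/-!
# Node D2 of the resolution project: the charts of a normalized blow-up

`φ : X₁ ⟶ X` a normalized blow-up of `J`, `U` affine open in `X`, `s ∈ J(U)`, and `ι : Γ(X, U) → T` a normal domain in
which `s` generates `J`, universal among the normal domains with this property: then the open `chart φ J U s` of `X₁`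
where `s` generates `J` is affine with ring `T`.
-/

set_option autoImplicit false
universe u

open CategoryTheory AlgebraicGeometry

namespace K937.StarGeo

open K84.Iface K84.DParts BlowUp
open Groth.Agent.Divis Groth.Agent.Divis.IdealComap Groth.Agent.Divis.BlowChart Groth.Agent.Divis.BlowChart2

/-- the universal property of the rings of the charts -/
def UP {A T : Type u} [CommRing A] [CommRing T] (ι : A →+* T) (I : Ideal A) (s : A) : Prop :=
  ∀ (B : Type u) [CommRing B] [IsDomain B] [IsIntegrallyClosed B] (g : A →+* B), Function.Injective g →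
    (∀ x ∈ I, g s ∣ g x) → ∃! G : T →+* B, G.comp ι = g

section General

variable {X₁ X : Scheme.{u}} (φ : X₁ ⟶ X)

theorem germ_appLE {U : X.Opens} {V : X₁.Opens} (e : V ≤ φ ⁻¹ᵁ U) (x : X₁) (hx : x ∈ V) (hx' : φ x ∈ U)
    (z : Γ(X, U)) : (X₁.presheaf.germ V x hx).hom ((φ.appLE U V e).hom z) =
      (φ.stalkMap x).hom ((X.presheaf.germ U (φ x) hx').hom z) := by
  have h2 : X.presheaf.germ U (φ x) hx' ≫ φ.stalkMap x = φ.appLE U V e ≫ X₁.presheaf.germ V x hx := by
    exact (Scheme.Hom.germ_stalkMap φ U x hx').trans (by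
      rw [Scheme.Hom.appLE, Category.assoc, X₁.presheaf.germ_res])
  exact (ConcreteCategory.congr_hom h2 z).symm

theorem appLE_injective [IsIntegral X₁] [IsIntegral X] (h : φ (genericPoint X₁) = genericPoint X)
    {U : X.Opens} {V : X₁.Opens} (e : V ≤ φ ⁻¹ᵁ U) (hV : genericPoint X₁ ∈ V) :
    Function.Injective (φ.appLE U V e).hom := by
  rw [injective_iff_map_eq_zero]
  intro a ha
  have hV' : φ (genericPoint X₁) ∈ U := e hV
  have h1 := germ_appLE φ e (genericPoint X₁) hV hV' a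
  rw [ha, map_zero] at h1
  have hfield : IsField (X.presheaf.stalk (φ (genericPoint X₁))) := by
    rw [h]
    exact Field.toIsField X.functionField
  have h2 : (X.presheaf.germ U (φ (genericPoint X₁)) hV').hom a = 0 := by
    let := hfield.toField
    exact (injective_iff_map_eq_zero (φ.stalkMap (genericPoint X₁)).hom).mp (RingHom.injective _) _ h1.symm
  exact (injective_iff_map_eq_zero (X.presheaf.germ U (φ (genericPoint X₁)) hV').hom).mp
    (germ_injective_of_isIntegral X _ hV') _ h2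

variable {φ} {J : X.IdealSheafData}

theorem isBir [IsIntegral X] (h : IsNB φ J) : IsBir φ := ⟨J.support.compl, h.ne, h.iso⟩

theorem dvd_germ (U : X.affineOpens) (s y : Γ(X, U.1)) (hy : y ∈ J.ideal U) (x : X₁)
    (hx : x ∈ chart φ J U s) :
    (X₁.presheaf.germ _ x hx).hom ((φ.appLE U.1 (chart φ J U s) (chart_le φ J U s)).hom s) ∣
      (X₁.presheaf.germ _ x hx).hom ((φ.appLE U.1 (chart φ J U s) (chart_le φ J U s)).hom y) := by
  obtain ⟨W, e, hxW, hW⟩ := (mem_chart_iff φ J U s x).1 hx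
  have h1 : (φ.appLE U.1 W.1 e).hom y ∈ (J.comap φ).ideal W := by
    rw [ideal_comap J φ U W e]
    exact Ideal.mem_map_of_mem _ hy
  rw [hW, Ideal.mem_span_singleton] at h1
  have hxU : φ x ∈ U.1 := e hxW
  have h2 : ∀ z, (X₁.presheaf.germ _ x hx).hom ((φ.appLE U.1 (chart φ J U s) (chart_le φ J U s)).hom z) =
      (X₁.presheaf.germ W.1 x hxW).hom ((φ.appLE U.1 W.1 e).hom z) := fun z => by
    rw [germ_appLE φ _ x hx hxU, germ_appLE φ _ x hxW hxU]
  rw [h2, h2]
  exact map_dvd (X₁.presheaf.germ W.1 x hxW).hom h1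

/-- the map from the universal ring to the ring of the chart -/
theorem exists_toChart [IsIntegral X] (h : IsNB φ J) (U : X.affineOpens) (s : Γ(X, U.1)) (hs0 : s ≠ 0)
    {T : Type u} [CommRing T] (ι : Γ(X, U.1) →+* T) (up : UP ι (J.ideal U) s)
    (hne : (chart φ J U s : Set X₁).Nonempty) :
    ∃ G : T →+* Γ(X₁, chart φ J U s), G.comp ι =
      (φ.appLE U.1 (chart φ J U s) (chart_le φ J U s)).hom := by
  have hint := h.int
  set D := chart φ J U s with hD
  have hgen : genericPoint X₁ ∈ D := K588.Bir.genericPoint_mem hne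
  have hNe : Nonempty D := ⟨⟨_, hgen⟩⟩
  have hgg := K588.Bir.map_genericPoint (isBir h)
  have hinj : Function.Injective (φ.appLE U.1 D (chart_le φ J U s)).hom := appLE_injective φ hgg _ hgen
  -- the function field
  let gη : Γ(X, U.1) →+* X₁.functionField :=
    (X₁.germToFunctionField D).hom.comp (φ.appLE U.1 D (chart_le φ J U s)).hom
  have hgη : Function.Injective gη := (X₁.germToFunctionField_injective D).comp hinj
  obtain ⟨Gη, hGη, huniq⟩ := up X₁.functionField gη hgη (fun x _ => by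
    refine ⟨(gη s)⁻¹ * gη x, ?_⟩
    rw [mul_inv_cancel_left₀]
    intro h0
    exact hs0 (hgη (h0.trans (map_zero _).symm)))
  have hmem : ∀ t, Gη t ∈ K857.OReg.O D := by
    intro t x hx
    obtain ⟨hdx, hicx⟩ := h.normal x
    let gx : Γ(X, U.1) →+* X₁.presheaf.stalk x :=
      (X₁.presheaf.germ D x hx).hom.comp (φ.appLE U.1 D (chart_le φ J U s)).hom
    have hgx : ∀ z, algebraMap (X₁.presheaf.stalk x) X₁.functionField (gx z) = gη z := fun z =>
      X₁.algebraMap_germ_eq_germToFunctionField hx _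
    have hgxi : Function.Injective gx := by
      intro a b hab
      apply hgη
      rw [← hgx, ← hgx, hab]
    obtain ⟨Gx, hGx, -⟩ := up (X₁.presheaf.stalk x) gx hgxi (fun y hy => dvd_germ U s y hy x hx)
    have h1 : (algebraMap (X₁.presheaf.stalk x) X₁.functionField).comp Gx = Gη := by
      apply huniq
      rw [RingHom.comp_assoc, hGx]
      ext z
      exact hgx z
    exact ⟨Gx t, congr($h1 t)⟩
  let G : T →+* Γ(X₁, D) := (K857.OReg.secEquiv D).symm.toRingHom.comp (Gη.codRestrict (K857.OReg.O D) hmem)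
  have hG : ∀ t, X₁.germToFunctionField D (G t) = Gη t := by
    intro t
    rw [← K857.OReg.secEquiv_apply]
    change (((K857.OReg.secEquiv D) ((K857.OReg.secEquiv D).symm ⟨Gη t, hmem t⟩) : K857.OReg.O D) : X₁.functionField) = _
    rw [RingEquiv.apply_symm_apply]
  refine ⟨G, ?_⟩
  ext z
  apply X₁.germToFunctionField_injective D
  exact (hG (ι z)).trans congr($hGη z)

/-- a morphism which makes `s` a generator of `J` lands in the chart -/
theorem mem_chart_of_comap (hE : IsEffCartierIdeal (J.comap φ)) (U : X.affineOpens) (s : Γ(X, U.1))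
    (hs : s ∈ J.ideal U) {Y : Scheme.{u}} (g : Y ⟶ X₁)
    (hY : ∀ (V : Y.affineOpens) (e : V.1 ≤ (g ≫ φ) ⁻¹ᵁ U.1),
      (J.comap (g ≫ φ)).ideal V = Ideal.span {((g ≫ φ).appLE U.1 V.1 e).hom s} ∧
        ((g ≫ φ).appLE U.1 V.1 e).hom s ∈ nonZeroDivisors Γ(Y, V.1)) (q : Y) (hq : φ (g q) ∈ U.1) :
    g q ∈ chart φ J U s := by
  obtain ⟨W, hqW, hWU, f, hf, hfW⟩ := EffCartier.exists_princAt hE (g q) (φ ⁻¹ᵁ U.1) hq
  have h3 : (φ.appLE U.1 W.1 hWU).hom s ∈ (J.comap φ).ideal W := by
    rw [ideal_comap J φ U W hWU]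
    exact Ideal.mem_map_of_mem _ hs
  rw [hfW, Ideal.mem_span_singleton] at h3
  obtain ⟨t, ht⟩ := h3
  obtain ⟨V, hV, hqV, hVle₀⟩ := exists_isAffineOpen_mem_and_subset (U := g ⁻¹ᵁ W.1) (x := q) hqW
  have hVle : V ≤ g ⁻¹ᵁ W.1 := hVle₀
  have e : V ≤ (g ≫ φ) ⁻¹ᵁ U.1 := fun y hy => hWU (hVle hy)
  obtain ⟨h4, hreg⟩ := hY ⟨V, hV⟩ e
  have h5 := ideal_comap (J.comap φ) g W ⟨V, hV⟩ hVle
  rw [← Scheme.IdealSheafData.comap_comp, h4, hfW, Ideal.map_span, Set.image_singleton] at h5
  have h7 : ((g ≫ φ).appLE U.1 V e).hom s = (g.appLE W.1 V hVle).hom f * (g.appLE W.1 V hVle).hom t := by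
    rw [← map_mul, ← ht, ← Scheme.Hom.appLE_comp_appLE g φ U.1 W.1 V hWU hVle]
    rfl
  have h8 : (g.appLE W.1 V hVle).hom f ∈ Ideal.span {((g ≫ φ).appLE U.1 V e).hom s} := by
    rw [h5]; exact Ideal.mem_span_singleton_self _
  obtain ⟨c, hc⟩ := Ideal.mem_span_singleton.1 h8
  change ((g ≫ φ).appLE U.1 V e).hom s ∈ nonZeroDivisors Γ(Y, V) at hreg
  rw [h7] at hreg
  have hf' := (mul_mem_nonZeroDivisors.1 hreg).1
  have h9 : (g.appLE W.1 V hVle).hom f * 1 =
      (g.appLE W.1 V hVle).hom f * ((g.appLE W.1 V hVle).hom t * c) := by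
    rw [mul_one, ← mul_assoc, ← h7]; exact hc
  have h10 := (mul_cancel_left_mem_nonZeroDivisors hf').1 h9
  have hu : IsUnit ((g.appLE W.1 V hVle).hom t) := IsUnit.of_mul_eq_one _ h10.symm
  have h11 : Y.basicOpen ((g.appLE W.1 V hVle).hom t) = V := Scheme.basicOpen_of_isUnit _ hu
  have h12 : q ∈ Y.basicOpen ((g.appLE W.1 V hVle).hom t) := by rw [h11]; exact hqV
  rw [Scheme.basicOpen_appLE] at h12
  have h13 : g q ∈ X₁.basicOpen t := h12.2
  refine (mem_chart_iff φ J U s (g q)).2 ⟨⟨X₁.basicOpen t, W.2.basicOpen t⟩,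
    (X₁.basicOpen_le t).trans hWU, h13, ?_⟩
  have h1 := (J.comap φ).map_ideal_basicOpen W t
  change _ = (J.comap φ).ideal ⟨X₁.basicOpen t, W.2.basicOpen t⟩ at h1
  have h14 : (φ.appLE U.1 (X₁.basicOpen t) ((X₁.basicOpen_le t).trans hWU)).hom s =
      (X₁.presheaf.map (homOfLE (X₁.basicOpen_le t)).op).hom ((φ.appLE U.1 W.1 hWU).hom s) := by
    have := Scheme.Hom.appLE_map φ hWU (homOfLE (X₁.basicOpen_le t)).op
    exact (congr($(congrArg CommRingCat.Hom.hom this) s)).symm
  rw [← h1, hfW, Ideal.map_span, Set.image_singleton, h14, ht, map_mul]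
  have hu' : IsUnit ((X₁.presheaf.map (homOfLE (X₁.basicOpen_le t)).op).hom t) :=
    RingedSpace.isUnit_res_basicOpen _ t
  exact (Ideal.span_singleton_mul_right_unit hu' _).symm

end General

section Spec

variable {A T : Type u} [CommRing A] [CommRing T] [IsDomain T] (ι : A →+* T)

omit [IsDomain T] in
theorem glob_map_apply (x : A) : glob (Spec.map (CommRingCat.ofHom ι)) x =
    (Scheme.ΓSpecIso (CommRingCat.of T)).inv.hom (ι x) := by
  have h : CommRingCat.ofHom (glob (Spec.map (CommRingCat.ofHom ι))) =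
      CommRingCat.ofHom ι ≫ (Scheme.ΓSpecIso (CommRingCat.of T)).inv := by
    rw [ofHom_glob, Scheme.ΓSpecIso_inv_naturality]
  exact congr($(congrArg CommRingCat.Hom.hom h) x)

theorem regSec_specMap {s : A} (hs : ι s ≠ 0) :
    RegSec (Spec (CommRingCat.of T)) (glob (Spec.map (CommRingCat.ofHom ι)) s) := by
  apply regSec_of_affine
  intro y
  refine ⟨⟨⊤, isAffineOpen_top _⟩, trivial, ?_⟩
  have h1 : resT (Spec (CommRingCat.of T)) ⊤ (glob (Spec.map (CommRingCat.ofHom ι)) s) =
      glob (Spec.map (CommRingCat.ofHom ι)) s := by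
    unfold resT
    have e : (homOfLE (le_top : (⊤ : (Spec (CommRingCat.of T)).Opens) ≤ ⊤)).op = 𝟙 _ := rfl
    rw [e]
    simp
  rw [h1, glob_map_apply]
  let e := (Scheme.ΓSpecIso (CommRingCat.of T)).symm.commRingCatIsoToRingEquiv
  rw [mem_nonZeroDivisors_iff_right]
  intro x hx
  have h3 := congrArg e.symm hx
  rw [map_mul, map_zero] at h3
  have h4 : e.symm ((Scheme.ΓSpecIso (CommRingCat.of T)).inv.hom (ι s)) = ι s := e.symm_apply_apply _
  rw [h4] at h3
  have h5 := (mul_eq_zero.mp h3).resolve_right hs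
  simpa using h5

omit [IsDomain T] in
theorem comap_specMap_ideal {I : Ideal A} {s : A} (hI : I.map ι = Ideal.span {ι s})
    (V : (Spec (CommRingCat.of T)).affineOpens) :
    ((idl I).comap (Spec.map (CommRingCat.ofHom ι))).ideal V =
      Ideal.span {resT _ V.1 (glob (Spec.map (CommRingCat.ofHom ι)) s)} := by
  rw [comap_idl_ideal]
  have h : ((resT _ V.1).comp (glob (Spec.map (CommRingCat.ofHom ι)))) =
      ((resT _ V.1).comp (Scheme.ΓSpecIso (CommRingCat.of T)).inv.hom).comp ι := by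
    ext x
    change resT _ V.1 (glob (Spec.map (CommRingCat.ofHom ι)) x) = _
    rw [glob_map_apply]
    rfl
  rw [h, ← Ideal.map_map, hI, Ideal.map_span, Set.image_singleton, glob_map_apply]
  rfl

theorem specMap_genericPoint [IsDomain A] (hι : Function.Injective ι) :
    Spec.map (CommRingCat.ofHom ι) (genericPoint (Spec (CommRingCat.of T))) =
      genericPoint (Spec (CommRingCat.of A)) := by
  have hA : IsDomain (CommRingCat.of A) := ‹IsDomain A›
  have hT : IsDomain (CommRingCat.of T) := ‹IsDomain T›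
  rw [genericPoint_eq_bot_of_affine, genericPoint_eq_bot_of_affine]
  apply PrimeSpectrum.ext
  change (⊥ : Ideal T).comap ι = ⊥
  rw [← RingHom.ker_eq_comap_bot]
  exact (RingHom.injective_iff_ker_eq_bot ι).mp hι

theorem isNormalScheme_spec [IsIntegrallyClosed T] : Pi1.IsNormalScheme (Spec (CommRingCat.of T)) :=
  fun y => Groth.Agent.Dix.NormalLoc.stalk_of_isNormalRing (CommRingCat.of T)
    (Groth.Agent.Dix.NormalLoc.isNormalRing_of_isIntegrallyClosed T) y

end Spec

section Main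

variable {X₁ X : Scheme.{u}} [IsIntegral X] {φ : X₁ ⟶ X} {J : X.IdealSheafData}

/-- **The charts of a normalized blow-up.** -/
theorem exists_chart_equiv (h : IsNB φ J) (U : X.affineOpens) (s : Γ(X, U.1)) (hs : s ∈ J.ideal U)
    (hs0 : s ≠ 0) {T : Type u} [CommRing T] [IsDomain T] [IsIntegrallyClosed T] (ι : Γ(X, U.1) →+* T)
    (hι : Function.Injective ι) (hJ : (J.ideal U).map ι = Ideal.span {ι s}) (up : UP ι (J.ideal U) s)
    (hne : (chart φ J U s : Set X₁).Nonempty) :
    IsAffineOpen (chart φ J U s) ∧ ∃ θ : T ≃+* Γ(X₁, chart φ J U s), ∀ c,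
      θ (ι c) = (φ.appLE U.1 (chart φ J U s) (chart_le φ J U s)).hom c := by
  have hint := h.int
  obtain ⟨G, hG⟩ := exists_toChart h U s hs0 ι up hne
  let D : X₁.Opens := chart φ J U s
  have hgen : genericPoint X₁ ∈ D := K588.Bir.genericPoint_mem hne
  have hNe : Nonempty D := ⟨⟨_, hgen⟩⟩
  have hgg := K588.Bir.map_genericPoint (isBir h)
  have hUne : Nonempty U.1 := ⟨⟨genericPoint X, by
    have := chart_le φ J U s hgen
    rw [← hgg]
    exact this⟩⟩
  have hAdom : IsDomain Γ(X, U.1) := inferInstance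
  have hU : IsAffineOpen U.1 := U.2
  have hcf : J.comap hU.fromSpec = idl (A := Γ(X, U.1)) (J.ideal U) := comap_fromSpec J U
  let fT : Spec (CommRingCat.of T) ⟶ X := Spec.map (CommRingCat.ofHom ι) ≫ hU.fromSpec
  have hιs : ι s ≠ 0 := fun h0 => hs0 (hι (h0.trans (map_zero ι).symm))
  have hreg := regSec_specMap ι hιs
  -- the ideal on `Spec T`
  have hideal : ∀ (V : (Spec (CommRingCat.of T)).affineOpens) (e : V.1 ≤ fT ⁻¹ᵁ U.1),
      (J.comap fT).ideal V = Ideal.span {(fT.appLE U.1 V.1 e).hom s} ∧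
        (fT.appLE U.1 V.1 e).hom s ∈ nonZeroDivisors Γ(Spec (CommRingCat.of T), V.1) := by
    intro V e
    have h0 : resT _ V.1 (glob (Spec.map (CommRingCat.ofHom ι)) s) = (fT.appLE U.1 V.1 e).hom s :=
      resT_glob U (Spec.map (CommRingCat.ofHom ι)) V.1 e s
    rw [← h0]
    refine ⟨?_, hreg.resT_mem V.1⟩
    have h1 : J.comap fT = (idl (A := Γ(X, U.1)) (J.ideal U)).comap (Spec.map (CommRingCat.ofHom ι)) := by
      rw [← hcf]
      exact Scheme.IdealSheafData.comap_comp _ _ _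
    rw [h1]
    exact comap_specMap_ideal ι hJ V
  have hle : ∀ q : Spec (CommRingCat.of T), fT q ∈ U.1 := by
    intro q
    have h1 : hU.fromSpec (Spec.map (CommRingCat.ofHom ι) q) ∈ Set.range hU.fromSpec := ⟨_, rfl⟩
    rw [hU.range_fromSpec] at h1
    exact h1
  have hEff : IsEffCartierIdeal (J.comap fT) := by
    intro y
    obtain ⟨h1, h2⟩ := hideal ⟨⊤, isAffineOpen_top _⟩ (fun q _ => hle q)
    exact ⟨⟨⊤, isAffineOpen_top _⟩, trivial, _, h2, h1⟩
  have hTdom : IsDomain (CommRingCat.of T) := ‹IsDomain T›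
  have hTint : IsIntegral (Spec (CommRingCat.of T)) := inferInstance
  have hAdom' : IsDomain (CommRingCat.of Γ(X, U.1)) := hAdom
  have hgT : fT (genericPoint (Spec (CommRingCat.of T))) = genericPoint X := by
    change hU.fromSpec (Spec.map (CommRingCat.ofHom ι) (genericPoint (Spec (CommRingCat.of T)))) = _
    rw [specMap_genericPoint ι hι]
    have h1 : IrreducibleSpace (Spec Γ(X, U.1)) := inferInstance
    exact genericPoint_eq_of_isOpenImmersion (X := Spec Γ(X, U.1)) hU.fromSpec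
  obtain ⟨hT, hTφ⟩ := h.lift (Spec (CommRingCat.of T)) hTint fT isNormalScheme_spec hgT hEff
  have hmem : ∀ q, hT q ∈ D := by
    intro q
    refine mem_chart_of_comap h.eff U s hs hT ?_ q ?_
    · rw [hTφ]; exact hideal
    · have := hle q
      rw [← hTφ] at this
      exact this
  have hrange : Set.range hT ⊆ Set.range D.ι := by
    rintro _ ⟨q, rfl⟩
    rw [Scheme.Opens.range_ι]
    exact hmem q
  let h' := IsOpenImmersion.lift D.ι hT hrange
  have hh' : h' ≫ D.ι = hT := IsOpenImmersion.lift_fac _ _ _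
  let v : D.toScheme ⟶ Spec (CommRingCat.of T) := D.toSpecΓ ≫ Spec.map (CommRingCat.ofHom G)
  have hv : v ≫ fT = D.ι ≫ φ := by
    have h1 : Spec.map (CommRingCat.ofHom G) ≫ Spec.map (CommRingCat.ofHom ι) =
        Spec.map (φ.appLE U.1 D (chart_le φ J U s)) := by
      rw [← Spec.map_comp, ← CommRingCat.ofHom_comp, hG]
      rfl
    have h2 : v ≫ Spec.map (CommRingCat.ofHom ι) = φ.resLE U.1 D (chart_le φ J U s) ≫ U.1.toSpecΓ := by
      rw [Category.assoc, h1]
      exact Scheme.Opens.toSpecΓ_SpecMap_appLE φ U.1 D (chart_le φ J U s)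
    calc v ≫ fT = (v ≫ Spec.map (CommRingCat.ofHom ι)) ≫ hU.fromSpec := (Category.assoc _ _ _).symm
      _ = (φ.resLE U.1 D (chart_le φ J U s) ≫ U.1.toSpecΓ) ≫ hU.fromSpec := by rw [h2]
      _ = φ.resLE U.1 D (chart_le φ J U s) ≫ U.1.toSpecΓ ≫ hU.fromSpec := Category.assoc _ _ _
      _ = D.ι ≫ φ := by rw [IsAffineOpen.toSpecΓ_fromSpec, Scheme.Hom.resLE_comp_ι]
  have hDint : IsIntegral D.toScheme := inferInstance
  have h1 : v ≫ h' = 𝟙 _ := by
    rw [← cancel_mono D.ι, Category.assoc, hh', Category.id_comp]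
    refine h.ext D.toScheme hDint _ _ ?_ ?_
    · rw [Category.assoc, hTφ, hv]
      change φ (D.ι (genericPoint D.toScheme)) = _
      rw [genericPoint_eq_of_isOpenImmersion D.ι, hgg]
    · rw [Category.assoc, hTφ, hv]
  have h2 : h' ≫ v = 𝟙 _ := by
    obtain ⟨σ, hσ⟩ := Spec.map_surjective (h' ≫ v)
    have h3 : (h' ≫ v) ≫ fT = fT := by
      rw [Category.assoc, hv, reassoc_of% hh', hTφ]
    have h4 : Spec.map σ ≫ Spec.map (CommRingCat.ofHom ι) = Spec.map (CommRingCat.ofHom ι) := by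
      rw [← cancel_mono hU.fromSpec, Category.assoc, hσ]
      exact h3
    rw [← Spec.map_comp] at h4
    have h5 : CommRingCat.ofHom ι ≫ σ = CommRingCat.ofHom ι := Spec.map_injective h4
    obtain ⟨_, -, huniq⟩ := up T ι hι (fun x hx => by
      have : ι x ∈ (J.ideal U).map ι := Ideal.mem_map_of_mem ι hx
      rw [hJ] at this
      exact Ideal.mem_span_singleton.mp this)
    have h6 : σ.hom = RingHom.id T :=
      (huniq σ.hom (congrArg CommRingCat.Hom.hom h5)).trans (huniq _ (RingHom.id_comp ι)).symm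
    rw [← hσ]
    have h7 : σ = 𝟙 _ := CommRingCat.hom_ext h6
    rw [h7, Spec.map_id]
  have hviso : IsIso v := ⟨h', h1, h2⟩
  have hDaff : IsAffineOpen D := IsAffine.of_isIso v
  refine ⟨hDaff, ?_⟩
  have h8 : IsIso D.toSpecΓ := by
    rw [← hDaff.isoSpec_hom]
    infer_instance
  have h9 : IsIso (Spec.map (CommRingCat.ofHom G)) := IsIso.of_isIso_comp_left D.toSpecΓ _
  have h10 : IsIso (CommRingCat.ofHom G) := by
    obtain ⟨k, hk1, hk2⟩ := h9
    obtain ⟨κ, rfl⟩ := Spec.map_surjective k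
    rw [← Spec.map_comp] at hk1 hk2
    refine ⟨κ, ?_, ?_⟩
    · apply Spec.map_injective
      rw [hk2, Spec.map_id]
    · apply Spec.map_injective
      rw [hk1, Spec.map_id]
  have h11 : Function.Bijective G := ConcreteCategory.bijective_of_isIso (CommRingCat.ofHom G)
  exact ⟨RingEquiv.ofBijective G h11, fun c => congr($hG c)⟩

end Main

end K937.StarGeo
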